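import Mathlib
import Cfsg.Prelude.Def_Local
import Cfsg.Agent.Lib.Helper6.PSolv3

set_option autoImplicit false

/-!
`p`-constraint: reduction to `C(O_p) ≤ O_p` in the quotient by `O_{p'}`.
-/

namespace Cfsg.Agent.Lib.Helper6

open Cfsg
open Cfsg.Agent.Lib.Helper14

universe u

section pconstr

variable {G : Type u} [Group G] {p : ℕ} [hp : Fact p.Prime]

omit hp in
/-- When `O_{p'}(X) = 1`, `O_{p',p}(X) = O_p(X)`. -/
theorem pPrimePCore_eq_pCore_of_pPrimeCore_eq_bot (hO : pPrimeCore p G = ⊥) :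
    pPrimePCore p G = pCore p G := by
  have hinj : Function.Injective (QuotientGroup.mk' (pPrimeCore p G)) := by
    rw [← MonoidHom.ker_eq_bot_iff, QuotientGroup.ker_mk', hO]
  have h := pCore_comap_mulEquiv (p := p) (MulEquiv.ofBijective (QuotientGroup.mk' (pPrimeCore p G))
    ⟨hinj, QuotientGroup.mk'_surjective _⟩)
  rw [← h]
  rfl

omit hp in
/-- For a `p`-group `K`, the centralizer condition over all Sylow `p`-subgroups of `K` is the
condition for `K` itself. -/
theorem forall_sylow_centralizer_iff (K : Subgroup G) (hK : IsPGroup p K) :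
    (∀ Q : Sylow p ↥K, Subgroup.centralizer (((Q : Subgroup ↥K).map K.subtype : Subgroup G) : Set G)
      ≤ K) ↔ Subgroup.centralizer (K : Set G) ≤ K := by
  have key : ∀ Q : Sylow p ↥K, (Q : Subgroup ↥K).map K.subtype = K := by
    intro Q
    have h1 : (⊤ : Subgroup ↥K) = (Q : Subgroup ↥K) :=
      Q.is_maximal' (IsPGroup.to_subgroup hK ⊤) le_top
    rw [← h1, ← MonoidHom.range_eq_map, Subgroup.range_subtype]
  constructor
  · intro h
    obtain ⟨Q⟩ : Nonempty (Sylow p ↥K) := inferInstance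
    have := h Q
    rwa [key Q] at this
  · intro h Q
    rw [key Q]
    exact h

/-- With `O_{p'}(G) = 1`, `p`-constraint says `C_G(O_p(G)) ≤ O_p(G)`. -/
theorem isPConstrained_iff_of_pPrimeCore_eq_bot [Finite G] (hO : pPrimeCore p G = ⊥) :
    IsPConstrained p G ↔ Subgroup.centralizer (pCore p G : Set G) ≤ pCore p G := by
  have h1 := pPrimePCore_eq_pCore_of_pPrimeCore_eq_bot hO
  have h2 : IsPGroup p (pPrimePCore p G) := by
    rw [h1]
    exact pCore_isPGroup p
  have h3 := forall_sylow_centralizer_iff (pPrimePCore p G) h2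
  have h4 : IsPConstrained p G ↔ Subgroup.centralizer (pPrimePCore p G : Set G)
      ≤ pPrimePCore p G := h3
  rw [h4, h1]

/-- `p`-constraint of `G` is the condition `C(O_p) ≤ O_p` in `G / O_{p'}(G)`. -/
theorem isPConstrained_iff_quotient [Finite G] :
    IsPConstrained p G ↔
      Subgroup.centralizer (pCore p (G ⧸ pPrimeCore p G) : Set (G ⧸ pPrimeCore p G))
        ≤ pCore p (G ⧸ pPrimeCore p G) := by
  have hKn : (pPrimePCore p G).Normal := pPrimePCore_normal
  have hπs : Function.Surjective (QuotientGroup.mk' (pPrimeCore p G)) :=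
    QuotientGroup.mk'_surjective _
  -- every element of `O_p(G/N)` is the image of an element of a given Sylow of `K`
  have hrep : ∀ (Q : Sylow p ↥(pPrimePCore p G)) (y : G ⧸ pPrimeCore p G),
      y ∈ pCore p (G ⧸ pPrimeCore p G) →
      ∃ y₀ ∈ (Q : Subgroup ↥(pPrimePCore p G)).map (pPrimePCore p G).subtype,
        QuotientGroup.mk' (pPrimeCore p G) y₀ = y := by
    intro Q y hy
    obtain ⟨k, rfl⟩ := hπs y
    have hk : k ∈ pPrimePCore p G := hy
    rw [pPrimePCore_eq_sup Q] at hk
    obtain ⟨m, hm, y₀, hy₀, rfl⟩ := Subgroup.mem_sup_of_normal_left.mp hk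
    refine ⟨y₀, hy₀, ?_⟩
    have hmN : (QuotientGroup.mk' (pPrimeCore p G)) m = 1 := (QuotientGroup.eq_one_iff m).mpr hm
    rw [map_mul, hmN, one_mul]
  constructor
  · intro hcon xb hxb
    obtain ⟨x, rfl⟩ := hπs xb
    obtain ⟨P⟩ : Nonempty (Sylow p ↥(pPrimePCore p G)) := inferInstance
    have hx : x ∈ Subgroup.normalizer (((P : Subgroup ↥(pPrimePCore p G)).map
        (pPrimePCore p G).subtype : Subgroup G) : Set G) ⊔ pPrimeCore p G := by
      rw [normalizer_sup_pPrimeCore_eq_top P]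
      trivial
    obtain ⟨n, hn, m, hm, rfl⟩ := Subgroup.mem_sup_of_normal_right.mp hx
    have hmN : (QuotientGroup.mk' (pPrimeCore p G)) m = 1 := (QuotientGroup.eq_one_iff m).mpr hm
    rw [map_mul, hmN, mul_one] at hxb ⊢
    have hnC : n ∈ Subgroup.centralizer (((P : Subgroup ↥(pPrimePCore p G)).map
        (pPrimePCore p G).subtype : Subgroup G) : Set G) := by
      refine Subgroup.mem_centralizer_iff.mpr ?_
      intro u hu
      have hu' : n * u * n⁻¹ ∈ (P : Subgroup ↥(pPrimePCore p G)).map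
          (pPrimePCore p G).subtype := (Subgroup.mem_normalizer_iff.mp hn u).mp hu
      have hcP : n * u * n⁻¹ * u⁻¹ ∈ (P : Subgroup ↥(pPrimePCore p G)).map
          (pPrimePCore p G).subtype := Subgroup.mul_mem _ hu' (Subgroup.inv_mem _ hu)
      have huK : u ∈ pPrimePCore p G := Subgroup.map_subtype_le _ hu
      have hcomm := (Subgroup.mem_centralizer_iff.mp hxb)
        (QuotientGroup.mk' (pPrimeCore p G) u) huK
      have hcN : n * u * n⁻¹ * u⁻¹ ∈ pPrimeCore p G := by
        apply (QuotientGroup.eq_one_iff _).mp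
        show QuotientGroup.mk' (pPrimeCore p G) (n * u * n⁻¹ * u⁻¹) = 1
        rw [map_mul, map_mul, map_mul, map_inv, map_inv, ← hcomm]
        group
      have hord1 := orderOf_coprime_of_mem_pPrimeCore hcN
      have hPp : IsPGroup p ((P : Subgroup ↥(pPrimePCore p G)).map
          (pPrimePCore p G).subtype) := P.2.map _
      obtain ⟨j, hj⟩ := hPp ⟨_, hcP⟩
      have hj' : (n * u * n⁻¹ * u⁻¹) ^ p ^ j = 1 := congrArg Subtype.val hj
      have hord2 : orderOf (n * u * n⁻¹ * u⁻¹) ∣ p ^ j := orderOf_dvd_of_pow_eq_one hj'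
      have hord3 : orderOf (n * u * n⁻¹ * u⁻¹) = 1 :=
        Nat.eq_one_of_dvd_coprimes (Nat.Coprime.pow_right j hord1) (dvd_refl _) hord2
      have hc1 : n * u * n⁻¹ * u⁻¹ = 1 := orderOf_eq_one_iff.mp hord3
      calc u * n = (n * u * n⁻¹ * u⁻¹)⁻¹ * (n * u) := by group
        _ = n * u := by rw [hc1, inv_one, one_mul]
    exact hcon P hnC
  · intro h Q x hx
    show QuotientGroup.mk' (pPrimeCore p G) x ∈ pCore p (G ⧸ pPrimeCore p G)
    apply h
    refine Subgroup.mem_centralizer_iff.mpr ?_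
    intro y hy
    obtain ⟨y₀, hy₀, rfl⟩ := hrep Q y hy
    rw [← map_mul, ← map_mul, (Subgroup.mem_centralizer_iff.mp hx) y₀ hy₀]

/-- `G` is `p`-constrained iff `G / O_{p'}(G)` is. -/
theorem isPConstrained_iff_isPConstrained_quotient [Finite G] :
    IsPConstrained p G ↔ IsPConstrained p (G ⧸ pPrimeCore p G) := by
  rw [isPConstrained_iff_quotient,
    isPConstrained_iff_of_pPrimeCore_eq_bot pPrimeCore_quotient_pPrimeCore_eq_bot]

end pconstr

end Cfsg.Agent.Lib.Helper6
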