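import Cfsg.Agent.Lib.Helper6.ZJFam

set_option autoImplicit false

/-!
Behaviour of the families `famX e P` under homomorphisms injective on `P`.
-/

namespace Cfsg.Agent.Lib.Helper6

open Cfsg
open scoped commutatorElement

universe u

section fam

variable {G : Type u} [Group G]

section injOn

variable {H : Type*} [Group H]

theorem card_map_of_injOn_sub (π : G →* H) (B : Subgroup G) (h : Set.InjOn π (B : Set G)) :
    Nat.card (B.map π) = Nat.card B := by
  have h1 : ((B.map π : Subgroup H) : Set H) = π '' (B : Set G) := Subgroup.coe_map π B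
  have h2 : Nat.card (B.map π) = ((B.map π : Subgroup H) : Set H).ncard :=
    Nat.card_coe_set_eq _
  have h3 : Nat.card B = (B : Set G).ncard := Nat.card_coe_set_eq _
  rw [h2, h3, h1]
  exact Set.InjOn.ncard_image h

theorem map_comap_inf_of_le_map (π : G →* H) (P : Subgroup G) (B' : Subgroup H)
    (h : B' ≤ P.map π) : (B'.comap π ⊓ P).map π = B' := by
  apply le_antisymm
  · rintro _ ⟨x, hx, rfl⟩
    exact (Subgroup.mem_inf.mp hx).1
  · intro y hy
    obtain ⟨x, hx, rfl⟩ := h hy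
    exact ⟨x, Subgroup.mem_inf.mpr ⟨hy, hx⟩, rfl⟩

theorem comm_of_map_comm_injOn (π : G →* H) (P B : Subgroup G) (hB : B ≤ P)
    (h : Set.InjOn π (P : Set G)) (hc : IsMulCommutative (B.map π)) : IsMulCommutative B := by
  apply IsMulCommutative.of_setLike_mul_comm
  intro a ha b hb
  apply h (P.mul_mem (hB ha) (hB hb)) (P.mul_mem (hB hb) (hB ha))
  rw [map_mul, map_mul]
  exact setLike_mul_comm (Subgroup.mem_map_of_mem π ha) (Subgroup.mem_map_of_mem π hb)

theorem pow_eq_one_of_map_injOn (π : G →* H) (P B : Subgroup G) (hB : B ≤ P)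
    (h : Set.InjOn π (P : Set G)) (e : ℕ) (hexp : ∀ y ∈ B.map π, y ^ e = 1) :
    ∀ b ∈ B, b ^ e = 1 := by
  intro b hb
  apply h (P.pow_mem (hB hb) e) P.one_mem
  rw [map_pow, map_one]
  exact hexp _ (Subgroup.mem_map_of_mem π hb)

theorem famX_map_of_injOn (e : ℕ) (π : G →* H) (P : Subgroup G)
    (h : Set.InjOn π (P : Set G)) (A : Subgroup G) (hA : A ∈ famX e P) :
    A.map π ∈ famX e (P.map π) := by
  obtain ⟨h1, h2, h3, h4⟩ := hA
  refine ⟨Subgroup.map_mono h1, inferInstance, ?_, ?_⟩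
  · rintro _ ⟨a, ha, rfl⟩
    rw [← map_pow, h3 a ha, map_one]
  · intro B' hB1 hB2 hB3
    have hmap := map_comap_inf_of_le_map π P B' hB1
    have hle : B'.comap π ⊓ P ≤ P := inf_le_right
    have hcomm : IsMulCommutative ↥(B'.comap π ⊓ P) :=
      comm_of_map_comm_injOn π P _ hle h (by rw [hmap]; exact hB2)
    have hexp : ∀ b ∈ B'.comap π ⊓ P, b ^ e = 1 :=
      pow_eq_one_of_map_injOn π P _ hle h e (by rw [hmap]; exact hB3)
    have h5 := h4 _ hle hcomm hexp
    rw [← card_map_of_injOn_sub π _ (h.mono hle), hmap] at h5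
    rw [card_map_of_injOn_sub π A (h.mono h1)]
    exact h5

theorem famX_comap_of_injOn (e : ℕ) (π : G →* H) (P : Subgroup G)
    (h : Set.InjOn π (P : Set G)) (A' : Subgroup H) (hA : A' ∈ famX e (P.map π)) :
    A'.comap π ⊓ P ∈ famX e P := by
  obtain ⟨h1, h2, h3, h4⟩ := hA
  have hmap := map_comap_inf_of_le_map π P A' h1
  have hle : A'.comap π ⊓ P ≤ P := inf_le_right
  refine ⟨hle, comm_of_map_comm_injOn π P _ hle h (by rw [hmap]; exact h2),
    pow_eq_one_of_map_injOn π P _ hle h e (by rw [hmap]; exact h3), ?_⟩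
  intro B hB1 hB2 hB3
  have hexp : ∀ y ∈ B.map π, y ^ e = 1 := by
    rintro _ ⟨b, hb, rfl⟩
    rw [← map_pow, hB3 b hb, map_one]
  have h5 := h4 (B.map π) (Subgroup.map_mono hB1) inferInstance hexp
  rw [card_map_of_injOn_sub π B (h.mono hB1)] at h5
  rw [← card_map_of_injOn_sub π _ (h.mono hle), hmap]
  exact h5

theorem map_sInf_famX_of_injOn [Finite G] (e : ℕ) (π : G →* H) (P : Subgroup G)
    (h : Set.InjOn π (P : Set G)) :
    (sInf (famX e P)).map π = sInf (famX e (P.map π)) := by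
  obtain ⟨A₀, hA₀⟩ := famX_nonempty e P
  ext x
  constructor
  · rintro ⟨w, hw, rfl⟩
    have hw' : w ∈ sInf (famX e P) := hw
    rw [Subgroup.mem_sInf] at hw' ⊢
    intro A' hA'
    have := hw' _ (famX_comap_of_injOn e π P h A' hA')
    exact (Subgroup.mem_inf.mp this).1
  · intro hx
    rw [Subgroup.mem_sInf] at hx
    obtain ⟨w, hw, rfl⟩ := hx _ (famX_map_of_injOn e π P h A₀ hA₀)
    refine ⟨w, ?_, rfl⟩
    show w ∈ sInf (famX e P)
    rw [Subgroup.mem_sInf]
    intro A hA
    obtain ⟨a, ha, haw⟩ := hx _ (famX_map_of_injOn e π P h A hA)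
    have : a = w := h (hA.1 ha) (hA₀.1 hw) haw
    rw [← this]; exact ha

end injOn

end fam

end Cfsg.Agent.Lib.Helper6
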