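import Cfsg.Agent.Lib.Helper6.ZJ
import Cfsg.Agent.Lib.Helper6.Basic
import Cfsg.Agent.S0651

set_option autoImplicit false

/-!
The families of abelian (or elementary abelian) subgroups of largest order of a subgroup `P`,
as subgroups of the ambient group, and the facts about them needed for the ZJ-theorem.
-/

namespace Cfsg.Agent.Lib.Helper6

open Cfsg
open scoped commutatorElement

universe u

section fam

variable {G : Type u} [Group G]

/-- The abelian subgroups of `P` of exponent dividing `e` (no condition for `e = 0`) of largest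
order. -/
def famX (e : ℕ) (P : Subgroup G) : Set (Subgroup G) :=
  {A | A ≤ P ∧ IsMulCommutative A ∧ (∀ a ∈ A, a ^ e = 1) ∧
    ∀ B : Subgroup G, B ≤ P → IsMulCommutative B → (∀ b ∈ B, b ^ e = 1) →
      Nat.card B ≤ Nat.card A}

theorem famX_le (e : ℕ) (P A : Subgroup G) (h : A ∈ famX e P) : A ≤ P := h.1

theorem famX_comm (e : ℕ) (P A : Subgroup G) (h : A ∈ famX e P) : IsMulCommutative A := h.2.1

theorem famX_nonempty [Finite G] (e : ℕ) (P : Subgroup G) : (famX e P).Nonempty := by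
  classical
  have hne : ({A : Subgroup G | A ≤ P ∧ IsMulCommutative A ∧ (∀ a ∈ A, a ^ e = 1)}).Nonempty := by
    refine ⟨⊥, bot_le, inferInstance, ?_⟩
    intro a ha
    rw [Subgroup.mem_bot] at ha
    rw [ha, one_pow]
  obtain ⟨A, hA, hmax⟩ := Set.exists_max_image _ (fun A : Subgroup G => Nat.card A)
    (Set.toFinite _) hne
  exact ⟨A, hA.1, hA.2.1, hA.2.2, fun B hB1 hB2 hB3 => hmax B ⟨hB1, hB2, hB3⟩⟩

theorem famX_aut (e : ℕ) (φ : G ≃* G) (P A : Subgroup G) (h : A ∈ famX e P) :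
    A.map φ.toMonoidHom ∈ famX e (P.map φ.toMonoidHom) := by
  obtain ⟨h1, h2, h3, h4⟩ := h
  refine ⟨Subgroup.map_mono h1, inferInstance, ?_, ?_⟩
  · rintro _ ⟨a, ha, rfl⟩
    have := h3 a ha
    show (φ a) ^ e = 1
    rw [← map_pow, this, map_one]
  · intro B hB1 hB2 hB3
    have hle : B.map φ.symm.toMonoidHom ≤ P := by
      rintro _ ⟨b, hb, rfl⟩
      obtain ⟨x, hx, hxb⟩ := hB1 hb
      have : φ.symm b = x := by
        rw [← hxb]; simp
      show φ.symm b ∈ P
      rw [this]; exact hx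
    have hexp : ∀ b ∈ B.map φ.symm.toMonoidHom, b ^ e = 1 := by
      rintro _ ⟨b, hb, rfl⟩
      show (φ.symm b) ^ e = 1
      rw [← map_pow, hB3 b hb, map_one]
    have h5 := h4 _ hle inferInstance hexp
    rw [Subgroup.card_map_of_injective φ.symm.injective] at h5
    rw [Subgroup.card_map_of_injective φ.injective]
    exact h5

theorem famX_mono (e : ℕ) (P P₁ A : Subgroup G) (hle : P₁ ≤ P) (h : A ∈ famX e P)
    (hA : A ≤ P₁) : A ∈ famX e P₁ ∧ famX e P₁ ⊆ famX e P := by
  obtain ⟨h1, h2, h3, h4⟩ := h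
  refine ⟨⟨hA, h2, h3, fun B hB1 hB2 hB3 => h4 B (hB1.trans hle) hB2 hB3⟩, ?_⟩
  rintro A₁ ⟨k1, k2, k3, k4⟩
  refine ⟨k1.trans hle, k2, k3, fun B hB1 hB2 hB3 => ?_⟩
  exact (h4 B hB1 hB2 hB3).trans (k4 A hA h2 h3)

/-- From the subgroup `P` as a group to the ambient group. -/
theorem famX_map_subtype (e : ℕ) (P : Subgroup G) (A' : Subgroup ↥P)
    (h : A' ∈ famX e (⊤ : Subgroup ↥P)) : A'.map P.subtype ∈ famX e P := by
  obtain ⟨-, h2, h3, h4⟩ := h
  refine ⟨Subgroup.map_subtype_le A', inferInstance, ?_, ?_⟩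
  · rintro _ ⟨a, ha, rfl⟩
    have := h3 a ha
    have h' := congrArg Subtype.val this
    simpa using h'
  · intro B hB1 hB2 hB3
    have hexp : ∀ b ∈ B.subgroupOf P, b ^ e = 1 := by
      intro b hb
      apply Subtype.ext
      have := hB3 b.1 (Subgroup.mem_subgroupOf.mp hb)
      simpa using this
    have h5 := h4 (B.subgroupOf P) le_top inferInstance hexp
    have h6 : Nat.card (B.subgroupOf P) = Nat.card B :=
      Nat.card_congr (Subgroup.subgroupOfEquivOfLe hB1).toEquiv
    rw [Subgroup.card_subtype, ← h6]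
    exact h5

theorem famX_subgroupOf (e : ℕ) (P A : Subgroup G) (h : A ∈ famX e P) :
    A.subgroupOf P ∈ famX e (⊤ : Subgroup ↥P) := by
  obtain ⟨h1, h2, h3, h4⟩ := h
  refine ⟨le_top, inferInstance, ?_, ?_⟩
  · intro b hb
    apply Subtype.ext
    have := h3 b.1 (Subgroup.mem_subgroupOf.mp hb)
    simpa using this
  · intro B' _ hB2 hB3
    have hexp : ∀ b ∈ B'.map P.subtype, b ^ e = 1 := by
      rintro _ ⟨b, hb, rfl⟩
      have := hB3 b hb
      have h' := congrArg Subtype.val this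
      simpa using h'
    have h5 := h4 (B'.map P.subtype) (Subgroup.map_subtype_le B') inferInstance hexp
    have h6 : Nat.card (A.subgroupOf P) = Nat.card A :=
      Nat.card_congr (Subgroup.subgroupOfEquivOfLe h1).toEquiv
    rw [Subgroup.card_subtype] at h5
    rw [h6]
    exact h5

theorem mem_maxAbelianSubgroups_iff (S : Type u) [Group S] (A : Subgroup S) :
    A ∈ maxAbelianSubgroups S ↔ A ∈ famX 0 (⊤ : Subgroup S) := by
  constructor
  · rintro ⟨h1, h2⟩
    exact ⟨le_top, h1, fun a _ => pow_zero a, fun B _ hB _ => h2 B hB⟩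
  · rintro ⟨-, h1, -, h2⟩
    exact ⟨h1, fun B hB => h2 B le_top hB (fun b _ => pow_zero b)⟩

theorem mem_maxElementaryAbelianSubgroups_iff (p : ℕ) (S : Type u) [Group S] (A : Subgroup S) :
    A ∈ maxElementaryAbelianSubgroups p S ↔ A ∈ famX p (⊤ : Subgroup S) := by
  constructor
  · rintro ⟨⟨h1, h1'⟩, h2⟩
    exact ⟨le_top, h1, h1', fun B _ hB hB' => h2 B ⟨hB, hB'⟩⟩
  · rintro ⟨-, h1, h1', h2⟩
    exact ⟨⟨h1, h1'⟩, fun B hB => h2 B le_top hB.1 hB.2⟩

/-- The replacement property for the families `famX e` (odd `p`). -/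
theorem famX_repl [Finite G] {p : ℕ} [Fact p.Prime] (hp : p ≠ 2) (e : ℕ) (P B : Subgroup G)
    (hP : IsPGroup p P) (hBn : B.Normal) (hBP : B ≤ P) (A : Subgroup G) (hA : A ∈ famX e P)
    (hBA : ⁅B, B⁆ ≤ A) (hnot : ¬ B ≤ A) :
    ∃ A' ∈ famX e P, ¬ B ≤ A' ∧ B ≤ Subgroup.normalizer (A' : Set G) := by
  have hU : ∃ U ∈ famX e (⊤ : Subgroup ↥P),
      ⁅B.subgroupOf P, B.subgroupOf P⁆ ≤ U ∧ ¬ B.subgroupOf P ≤ U := by
    refine ⟨A.subgroupOf P, famX_subgroupOf e P A hA, ?_, ?_⟩
    · rw [Subgroup.commutator_le]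
      intro x hx y hy
      rw [Subgroup.mem_subgroupOf]
      have e1 : ((⁅x, y⁆ : ↥P) : G) = ⁅(x : G), (y : G)⁆ := by
        simp [commutatorElement_def]
      rw [e1]
      exact hBA (Subgroup.commutator_mem_commutator (Subgroup.mem_subgroupOf.mp hx)
        (Subgroup.mem_subgroupOf.mp hy))
    · intro hle
      apply hnot
      intro x hx
      have : (⟨x, hBP hx⟩ : ↥P) ∈ A.subgroupOf P := hle (Subgroup.mem_subgroupOf.mpr hx)
      exact Subgroup.mem_subgroupOf.mp this
  have hcl : ∀ A₁ ∈ famX e (⊤ : Subgroup ↥P), ∀ A₂ : Subgroup ↥P, A₂ ≤ ⊤ → IsMulCommutative A₂ →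
      Nat.card A₂ = Nat.card A₁ → Monoid.exponent A₂ ∣ Monoid.exponent A₁ →
      A₂ ∈ famX e (⊤ : Subgroup ↥P) := by
    rintro A₁ ⟨-, k2, k3, k4⟩ A₂ - hA₂ hcard hexp
    refine ⟨le_top, hA₂, ?_, ?_⟩
    · have h1 : Monoid.exponent A₁ ∣ e := by
        apply Monoid.exponent_dvd_of_forall_pow_eq_one
        intro a
        apply Subtype.ext
        have := k3 a.1 a.2
        simpa using this
      intro a ha
      have h := Monoid.exponent_dvd_iff_forall_pow_eq_one.mp (hexp.trans h1) (⟨a, ha⟩ : A₂)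
      have h' := congrArg Subtype.val h
      simpa using h'
    · intro B' hB1 hB2 hB3
      rw [hcard]
      exact k4 B' hB1 hB2 hB3
  obtain ⟨A', hA'F, -, hBA', hBN⟩ := Cfsg.Agent.S0651.replace_family hP hp (⊤ : Subgroup ↥P)
    (famX e (⊤ : Subgroup ↥P)) (fun A₁ h => h.2.1) (fun A₁ h => h.1) hcl (B.subgroupOf P) hU
  refine ⟨A'.map P.subtype, famX_map_subtype e P A' hA'F, ?_, ?_⟩
  · intro hle
    apply hBA'
    intro x hx
    obtain ⟨y, hy, hyx⟩ := hle (Subgroup.mem_subgroupOf.mp hx)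
    have : y = x := Subtype.ext hyx
    rw [← this]; exact hy
  · intro x hx
    apply mem_normalizer_of_conj_mem_sub B _ _ hx
    rintro b hb _ ⟨y, hy, rfl⟩
    have hbN := hBN (show (⟨b, hBP hb⟩ : ↥P) ∈ B.subgroupOf P from Subgroup.mem_subgroupOf.mpr hb)
    have h1 := (Subgroup.mem_normalizer_iff.mp hbN y).mp hy
    exact ⟨_, h1, by simp⟩

/-- The centre of the abelian-version Thompson subgroup is the intersection of the abelian
subgroups of largest order. -/
theorem sInf_famX_zero [Finite G] (P : Subgroup G) :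
    sInf (famX 0 P) = centerThompsonAOf P := by
  have hJ1 : ∀ A ∈ famX 0 P, A ≤ thompsonSubgroupAOf P := by
    intro A hA
    have h1 := (mem_maxAbelianSubgroups_iff ↥P _).mpr (famX_subgroupOf 0 P A hA)
    have h2 : A.subgroupOf P ≤ thompsonSubgroupA ↥P := le_sSup h1
    have h3 := Subgroup.map_mono (f := P.subtype) h2
    rw [Subgroup.map_subgroupOf_eq_of_le hA.1] at h3
    exact h3
  have hJ2 : ∀ K : Subgroup G, (∀ A ∈ famX 0 P, A ≤ K) → thompsonSubgroupAOf P ≤ K := by
    intro K hK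
    unfold thompsonSubgroupAOf thompsonSubgroupA
    rw [Subgroup.map_le_iff_le_comap]
    apply sSup_le
    intro A' hA'
    rw [← Subgroup.map_le_iff_le_comap]
    exact hK _ (famX_map_subtype 0 P A' ((mem_maxAbelianSubgroups_iff ↥P _).mp hA'))
  have hJ3 : thompsonSubgroupAOf P ≤ P := Subgroup.map_subtype_le _
  obtain ⟨A₀, hA₀⟩ := famX_nonempty 0 P
  apply le_antisymm
  · intro w hw
    rw [Subgroup.mem_sInf] at hw
    unfold centerThompsonAOf
    refine Subgroup.mem_inf.mpr ⟨hJ1 A₀ hA₀ (hw A₀ hA₀), ?_⟩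
    have h1 : thompsonSubgroupAOf P ≤ Subgroup.centralizer ({w} : Set G) := by
      apply hJ2
      intro A hA a ha
      show a ∈ Subgroup.centralizer _
      rw [Subgroup.mem_centralizer_iff]
      intro y hy
      rw [Set.mem_singleton_iff] at hy
      subst hy
      have := hA.2.1
      exact setLike_mul_comm (hw A hA) ha
    show w ∈ Subgroup.centralizer _
    rw [Subgroup.mem_centralizer_iff]
    intro h hh
    have := Subgroup.mem_centralizer_iff.mp (h1 hh) w rfl
    exact this.symm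
  · apply le_sInf
    intro A hA z hz
    unfold centerThompsonAOf at hz
    obtain ⟨hzJ, hzC⟩ := Subgroup.mem_inf.mp hz
    have hzc : ∀ a ∈ A, a * z = z * a := by
      intro a ha
      exact Subgroup.mem_centralizer_iff.mp hzC a (hJ1 A hA ha)
    have hcomm := isMulCommutative_sup_zpowers A hA.2.1 z hzc
    have hle : A ⊔ Subgroup.zpowers z ≤ P :=
      sup_le hA.1 (Subgroup.zpowers_le.mpr (hJ3 hzJ))
    have hcard := hA.2.2.2 _ hle hcomm (fun b _ => pow_zero b)
    have heq : A = A ⊔ Subgroup.zpowers z := Subgroup.eq_of_le_of_card_ge le_sup_left hcard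
    rw [heq]
    exact Subgroup.mem_sup_right (Subgroup.mem_zpowers z)

theorem pow_eq_one_of_mem_sup_comm (A B : Subgroup G) (hc : IsMulCommutative ↥(A ⊔ B)) (n : ℕ)
    (hA : ∀ a ∈ A, a ^ n = 1) (hB : ∀ b ∈ B, b ^ n = 1) : ∀ y ∈ A ⊔ B, y ^ n = 1 := by
  let W : Subgroup G :=
    { carrier := {x | x ∈ A ⊔ B ∧ x ^ n = 1}
      mul_mem' := by
        rintro x y ⟨hx, hxe⟩ ⟨hy, hye⟩
        refine ⟨Subgroup.mul_mem _ hx hy, ?_⟩
        rw [(show Commute x y from setLike_mul_comm hx hy).mul_pow, hxe, hye, one_mul]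
      one_mem' := ⟨Subgroup.one_mem _, one_pow _⟩
      inv_mem' := by
        rintro x ⟨hx, hxe⟩
        exact ⟨Subgroup.inv_mem _ hx, by rw [inv_pow, hxe, inv_one]⟩ }
  have hle : A ⊔ B ≤ W := by
    apply sup_le
    · intro a ha
      exact ⟨Subgroup.mem_sup_left ha, hA a ha⟩
    · intro b hb
      exact ⟨Subgroup.mem_sup_right hb, hB b hb⟩
  intro y hy
  exact (hle hy).2

/-- `Ω₁(Z(J(S)))` for the elementary-abelian Thompson subgroup is the intersection of the
elementary abelian subgroups of largest order. -/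
theorem omegaCenterThompson_eq_sInf (p : ℕ) (S : Type u) [Group S] [Finite S] :
    omegaCenterThompson p S = sInf (famX p (⊤ : Subgroup S)) := by
  have hM : maxElementaryAbelianSubgroups p S = famX p (⊤ : Subgroup S) := by
    ext A
    exact mem_maxElementaryAbelianSubgroups_iff p S A
  obtain ⟨A₀, hA₀⟩ := famX_nonempty p (⊤ : Subgroup S)
  unfold omegaCenterThompson omegaOne thompsonSubgroup
  rw [hM]
  apply le_antisymm
  · rw [Subgroup.closure_le]
    rintro x ⟨hx, hxp⟩
    obtain ⟨hxJ, hxC⟩ := Subgroup.mem_inf.mp hx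
    show x ∈ sInf (famX p (⊤ : Subgroup S))
    rw [Subgroup.mem_sInf]
    intro A hA
    have hzc : ∀ a ∈ A, a * x = x * a := by
      intro a ha
      exact Subgroup.mem_centralizer_iff.mp hxC a (le_sSup hA ha)
    have hcomm := isMulCommutative_sup_zpowers A hA.2.1 x hzc
    have hexp : ∀ y ∈ A ⊔ Subgroup.zpowers x, y ^ p = 1 := by
      apply pow_eq_one_of_mem_sup_comm A _ hcomm p hA.2.2.1
      rintro _ ⟨k, rfl⟩
      show (x ^ k) ^ p = 1
      rw [← zpow_natCast, ← zpow_mul, mul_comm, zpow_mul, zpow_natCast, hxp, one_zpow]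
    have hcard := hA.2.2.2 _ le_top hcomm hexp
    have heq : A = A ⊔ Subgroup.zpowers x := Subgroup.eq_of_le_of_card_ge le_sup_left hcard
    rw [heq]
    exact Subgroup.mem_sup_right (Subgroup.mem_zpowers x)
  · intro w hw
    rw [Subgroup.mem_sInf] at hw
    apply Subgroup.subset_closure
    refine ⟨Subgroup.mem_inf.mpr ⟨le_sSup hA₀ (hw A₀ hA₀), ?_⟩, hA₀.2.2.1 w (hw A₀ hA₀)⟩
    have h1 : sSup (famX p (⊤ : Subgroup S)) ≤ Subgroup.centralizer ({w} : Set S) := by
      apply sSup_le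
      intro A hA a ha
      show a ∈ Subgroup.centralizer _
      rw [Subgroup.mem_centralizer_iff]
      intro y hy
      rw [Set.mem_singleton_iff] at hy
      subst hy
      have := hA.2.1
      exact setLike_mul_comm (hw A hA) ha
    show w ∈ Subgroup.centralizer _
    rw [Subgroup.mem_centralizer_iff]
    intro h hh
    have := Subgroup.mem_centralizer_iff.mp (h1 hh) w rfl
    exact this.symm

/-- Transport of the intersection from `P` as a group to the ambient group. -/
theorem map_sInf_famX_top [Finite G] (e : ℕ) (P : Subgroup G) :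
    (sInf (famX e (⊤ : Subgroup ↥P))).map P.subtype = sInf (famX e P) := by
  obtain ⟨A₀, hA₀⟩ := famX_nonempty e P
  ext x
  constructor
  · rintro ⟨y, hy, rfl⟩
    have hy' : y ∈ sInf (famX e (⊤ : Subgroup ↥P)) := hy
    rw [Subgroup.mem_sInf] at hy' ⊢
    intro A hA
    exact Subgroup.mem_subgroupOf.mp (hy' _ (famX_subgroupOf e P A hA))
  · intro hx
    rw [Subgroup.mem_sInf] at hx
    have hxP : x ∈ P := hA₀.1 (hx A₀ hA₀)
    refine ⟨⟨x, hxP⟩, ?_, rfl⟩
    show (⟨x, hxP⟩ : ↥P) ∈ sInf (famX e (⊤ : Subgroup ↥P))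
    rw [Subgroup.mem_sInf]
    intro A' hA'
    obtain ⟨y, hy, hyx⟩ := hx _ (famX_map_subtype e P A' hA')
    have : y = ⟨x, hxP⟩ := Subtype.ext hyx
    rw [← this]; exact hy

end fam

end Cfsg.Agent.Lib.Helper6
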