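import Mathlib
import Cfsg.Prelude.Def_PLocal
import Cfsg.Prelude.Def_Local
import Cfsg.Agent.Lib.Helper18.SylowRel
import Cfsg.Agent.Lib.Helper1.PQ

set_option autoImplicit false

/-!
An abstract form of Glauberman's ZJ-theorem: for a conjugation-equivariant family functor
`F` of abelian subgroups with the replacement property, the intersection of `F P` (for a Sylow
`p`-subgroup `P`) meets every normal `p`-subgroup in a normal subgroup.
-/

namespace Cfsg.Agent.Lib.Helper6

open Cfsg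
open scoped commutatorElement

universe u

section zj

variable {G : Type u} [Group G]

theorem card_lt_card_of_lt_sub [Finite G] {H K : Subgroup G} (h : H < K) :
    Nat.card H < Nat.card K := by
  have h1 : (H : Set G) ⊂ (K : Set G) := SetLike.coe_ssubset_coe.mpr h
  have h2 := Set.ncard_lt_ncard h1
  rw [← Nat.card_coe_set_eq, ← Nat.card_coe_set_eq] at h2
  exact h2

theorem mem_normalizer_of_conj_mem_sub (A H : Subgroup G)
    (h : ∀ a ∈ A, ∀ x ∈ H, a * x * a⁻¹ ∈ H) {a : G} (ha : a ∈ A) :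
    a ∈ Subgroup.normalizer (H : Set G) := by
  rw [Subgroup.mem_normalizer_iff]
  intro x
  constructor
  · exact h a ha x
  · intro hx
    have := h a⁻¹ (A.inv_mem ha) _ hx
    have e : a⁻¹ * (a * x * a⁻¹) * a⁻¹⁻¹ = x := by group
    rwa [e] at this

/-- Invariance of the intersection of the family under the normalizer. -/
theorem sInf_conj_mem (F : Subgroup G → Set (Subgroup G))
    (hFconj : ∀ P A (g : G), A ∈ F P → g ∈ Subgroup.normalizer (P : Set G) →
      A.map (MulAut.conj g).toMonoidHom ∈ F P)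
    (P : Subgroup G) (g : G) (hg : g ∈ Subgroup.normalizer (P : Set G)) (w : G)
    (hw : w ∈ sInf (F P)) : g * w * g⁻¹ ∈ sInf (F P) := by
  rw [Subgroup.mem_sInf] at hw ⊢
  intro A hA
  have h1 := hFconj P A g⁻¹ hA (Subgroup.inv_mem _ hg)
  have h2 := hw _ h1
  rw [Helper18.mem_map_conj_iff] at h2
  simpa using h2

theorem isSylowIn_inf_of_normal [Finite G] {p : ℕ} [Fact p.Prime] (P : Sylow p G)
    (L : Subgroup G) [L.Normal] : Helper18.IsSylowIn p ((P : Subgroup G) ⊓ L) L := by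
  refine ⟨inf_le_right, P.isPGroup'.to_le inf_le_left, ?_⟩
  intro R' hR' hle hR'L
  obtain ⟨g, hg⟩ := Helper18.exists_conj_le_sylow hR' P
  have h1 : R' ≤ ((P : Subgroup G) ⊓ L).map (MulAut.conj g).toMonoidHom := by
    intro x hx
    rw [Helper18.mem_map_conj_iff]
    have h2 := (Helper18.mem_map_conj_iff _ g x).mp (hg hx)
    refine Subgroup.mem_inf.mpr ⟨h2, ?_⟩
    have := ‹L.Normal›.conj_mem x (hR'L hx) g⁻¹
    simpa using this
  have h2 : Nat.card R' ≤ Nat.card ((P : Subgroup G) ⊓ L : Subgroup G) := by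
    have := Subgroup.card_le_of_le h1
    rwa [Helper18.card_map_conj] at this
  exact (Subgroup.eq_of_le_of_card_ge hle h2).symm

theorem frattini_inf_normal [Finite G] {p : ℕ} [Fact p.Prime] (P : Sylow p G)
    (L : Subgroup G) [L.Normal] :
    L ⊔ Subgroup.normalizer (((P : Subgroup G) ⊓ L : Subgroup G) : Set G) = ⊤ := by
  rw [eq_top_iff]
  intro g _
  have h0 := isSylowIn_inf_of_normal P L
  have h1 := h0.map_conj g
  have hL : L.map (MulAut.conj g).toMonoidHom = L :=
    Helper18.map_conj_eq_of_mem_normalizer L (by rw [Subgroup.normalizer_eq_top]; trivial)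
  rw [hL] at h1
  obtain ⟨c, hc, hceq⟩ := h0.exists_conj_eq h1
  have h2 : c⁻¹ * g ∈ Subgroup.normalizer (((P : Subgroup G) ⊓ L : Subgroup G) : Set G) := by
    apply Helper18.mem_normalizer_of_map_conj_eq
    rw [Helper18.map_conj_mul, hceq, ← Helper18.map_conj_mul, inv_mul_cancel,
      Helper18.map_conj_one]
  have e : g = c * (c⁻¹ * g) := by group
  rw [e]
  exact Subgroup.mul_mem_sup hc h2

/-- If all commutators of elements of `s` with elements of the normal subgroup `B` lie in the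
normal subgroup `Y`, the same holds for the normal closure of `s`. -/
theorem commutator_normalClosure_le (s : Set G) (B Y : Subgroup G) [B.Normal] [Y.Normal]
    (h : ∀ z ∈ s, ∀ x ∈ B, ⁅z, x⁆ ∈ Y) : ⁅Subgroup.normalClosure s, B⁆ ≤ Y := by
  let K : Subgroup G :=
    { carrier := {x | ∀ y ∈ B, ⁅x, y⁆ ∈ Y}
      one_mem' := by
        intro y _
        simp
      mul_mem' := by
        intro x₁ x₂ h1 h2 y hy
        have e : ⁅x₁ * x₂, y⁆ = x₁ * ⁅x₂, y⁆ * x₁⁻¹ * ⁅x₁, y⁆ := by
          simp only [commutatorElement_def]; group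
        rw [e]
        exact Y.mul_mem (‹Y.Normal›.conj_mem _ (h2 y hy) _) (h1 y hy)
      inv_mem' := by
        intro x h1 y hy
        have e : ⁅x⁻¹, y⁆ = x⁻¹ * (⁅x, y⁆)⁻¹ * x⁻¹⁻¹ := by
          simp only [commutatorElement_def]; group
        rw [e]
        exact ‹Y.Normal›.conj_mem _ (Y.inv_mem (h1 y hy)) _ }
  have hKn : K.Normal := by
    refine ⟨fun x hx g y hy => ?_⟩
    have e : ⁅g * x * g⁻¹, y⁆ = g * ⁅x, g⁻¹ * y * g⁻¹⁻¹⁆ * g⁻¹ := by
      simp only [commutatorElement_def]; group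
    rw [e]
    exact ‹Y.Normal›.conj_mem _ (hx _ (‹B.Normal›.conj_mem y hy g⁻¹)) _
  have hle : Subgroup.normalClosure s ≤ K := Subgroup.normalClosure_le_normal (fun z hz => h z hz)
  rw [Subgroup.commutator_le]
  intro x hx y hy
  exact hle hx y hy

/-- The abstract ZJ-theorem: the intersection `W` of the family meets every normal `p`-subgroup
in a normal subgroup. -/
theorem zj_inf_normal [Finite G] {p : ℕ} [Fact p.Prime] (F : Subgroup G → Set (Subgroup G))
    (hFcomm : ∀ P A, A ∈ F P → IsMulCommutative A)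
    (hFle : ∀ P A, A ∈ F P → A ≤ P)
    (hFconj : ∀ P A (g : G), A ∈ F P → g ∈ Subgroup.normalizer (P : Set G) →
      A.map (MulAut.conj g).toMonoidHom ∈ F P)
    (hFmono : ∀ P P₁ A, P₁ ≤ P → A ∈ F P → A ≤ P₁ → A ∈ F P₁ ∧ F P₁ ⊆ F P)
    (hFrepl : ∀ P B : Subgroup G, IsPGroup p P → B.Normal → B ≤ P → ∀ A ∈ F P, ⁅B, B⁆ ≤ A →
      ¬ B ≤ A → ∃ A' ∈ F P, ¬ B ≤ A' ∧ B ≤ Subgroup.normalizer (A' : Set G))
    (hst : ∀ (V : Subgroup G) [V.Normal], IsPGroup p V → ∀ a : G,
      IsPGroup p (Subgroup.zpowers a) → ⁅⁅V, Subgroup.zpowers a⁆, Subgroup.zpowers a⁆ = ⊥ →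
      (QuotientGroup.mk a : G ⧸ Subgroup.centralizer (V : Set G)) ∈
        pCore p (G ⧸ Subgroup.centralizer (V : Set G)))
    (P : Sylow p G) :
    ∀ (n : ℕ) (B : Subgroup G), B.Normal → IsPGroup p B → Nat.card B ≤ n →
      (sInf (F (P : Subgroup G)) ⊓ B).Normal := by
  intro n
  induction n with
  | zero =>
    intro B _ _ hcard
    have := Nat.card_pos (α := B)
    omega
  | succ n ih =>
    intro B hBn hB hcard
    obtain ⟨W, hW⟩ : ∃ W, W = sInf (F (P : Subgroup G)) := ⟨_, rfl⟩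
    rw [← hW] at ih ⊢
    have hBP : B ≤ P := hB.le_sylow_of_normal P
    have hPW : ∀ x ∈ (P : Subgroup G), ∀ w ∈ W, x * w * x⁻¹ ∈ W := by
      intro x hx w hw
      rw [hW] at hw ⊢
      exact sInf_conj_mem F hFconj P x (Subgroup.le_normalizer hx) w hw
    by_cases hBW : B ≤ W
    · rw [inf_eq_right.mpr hBW]; exact hBn
    have hB₁le : Subgroup.normalClosure ((W ⊓ B : Subgroup G) : Set G) ≤ B :=
      Subgroup.normalClosure_le_normal inf_le_right
    by_cases hB₁ : Subgroup.normalClosure ((W ⊓ B : Subgroup G) : Set G) = B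
    swap
    · have hlt : Subgroup.normalClosure ((W ⊓ B : Subgroup G) : Set G) < B :=
        lt_of_le_of_ne hB₁le hB₁
      have hc := card_lt_card_of_lt_sub hlt
      have h1 := ih _ Subgroup.normalClosure_normal (hB.to_le hB₁le) (by omega)
      have e : W ⊓ B = W ⊓ Subgroup.normalClosure ((W ⊓ B : Subgroup G) : Set G) :=
        le_antisymm (le_inf inf_le_left Subgroup.le_normalClosure) (inf_le_inf_left W hB₁le)
      rw [e]; exact h1
    -- the main case
    exfalso
    have hBne : B ≠ ⊥ := by rintro rfl; exact hBW bot_le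
    have hB'lt : ⁅B, B⁆ < B :=
      Helper1.commutator_lt_of_pgroups hB hB Subgroup.le_normalizer hBne
    have hB'n : (⁅B, B⁆).Normal := Subgroup.commutator_normal B B
    have hYn : (W ⊓ ⁅B, B⁆).Normal := by
      have hc := card_lt_card_of_lt_sub hB'lt
      exact ih _ hB'n (hB.to_le hB'lt.le) (by omega)
    have hB'W : ⁅B, B⁆ ≤ W := by
      have h1 : ⁅Subgroup.normalClosure ((W ⊓ B : Subgroup G) : Set G), B⁆ ≤ W ⊓ ⁅B, B⁆ := by
        apply commutator_normalClosure_le
        intro z hz x hx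
        obtain ⟨hzW, hzB⟩ := Subgroup.mem_inf.mp hz
        refine Subgroup.mem_inf.mpr ⟨?_, Subgroup.commutator_mem_commutator hzB hx⟩
        have e : ⁅z, x⁆ = z * (x * z⁻¹ * x⁻¹) := by
          simp only [commutatorElement_def]; group
        rw [e]
        exact W.mul_mem hzW (hPW x (hBP hx) _ (W.inv_mem hzW))
      rw [hB₁] at h1
      exact h1.trans inf_le_left
    -- a member of the family not containing B
    obtain ⟨A₀, hA₀F, hBA₀⟩ : ∃ A₀ ∈ F (P : Subgroup G), ¬ B ≤ A₀ := by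
      by_contra hcon
      push Not at hcon
      apply hBW
      rw [hW]
      exact le_sInf hcon
    have hWA₀ : W ≤ A₀ := hW ▸ sInf_le hA₀F
    obtain ⟨A, hAF, hBA, hBNA⟩ :=
      hFrepl P B P.isPGroup' hBn hBP A₀ hA₀F (hB'W.trans hWA₀) hBA₀
    have hA := hFcomm _ A hAF
    have hAP : A ≤ P := hFle _ A hAF
    have hquad : ⁅⁅B, A⁆, A⁆ = ⊥ := by
      rw [Subgroup.commutator_eq_bot_iff_le_centralizer]
      have h1 : ⁅B, A⁆ ≤ A := Helper18.commutator_le_of_le_normalizer hBNA
      intro w hw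
      show w ∈ Subgroup.centralizer _
      rw [Subgroup.mem_centralizer_iff]
      intro a ha
      exact setLike_mul_comm ha (h1 hw)
    -- p-stability
    obtain ⟨C, hC⟩ : ∃ C, C = Subgroup.centralizer (B : Set G) := ⟨_, rfl⟩
    have hCn : C.Normal := by rw [hC]; infer_instance
    have hstB : ∀ a ∈ A, (QuotientGroup.mk a : G ⧸ C) ∈ pCore p (G ⧸ C) := by
      intro a ha
      subst hC
      apply hst B hB a
      · exact P.isPGroup'.to_le ((Subgroup.zpowers_le.mpr ha).trans hAP)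
      · have hz : Subgroup.zpowers a ≤ A := Subgroup.zpowers_le.mpr ha
        exact eq_bot_iff.mpr ((Subgroup.commutator_mono (Subgroup.commutator_mono le_rfl hz) hz).trans
          (le_of_eq hquad))
    obtain ⟨L, hL⟩ : ∃ L, L = (pCore p (G ⧸ C)).comap (QuotientGroup.mk' C) := ⟨_, rfl⟩
    have hLn : L.Normal := by rw [hL]; infer_instance
    have hCL : C ≤ L := by
      intro c hc
      rw [hL, Subgroup.mem_comap]
      have : QuotientGroup.mk' C c = 1 := (QuotientGroup.eq_one_iff c).mpr hc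
      rw [this]; exact Subgroup.one_mem _
    have hAL : A ≤ L := by
      intro a ha
      rw [hL, Subgroup.mem_comap]
      exact hstB a ha
    obtain ⟨P₁, hP₁⟩ : ∃ P₁, P₁ = (P : Subgroup G) ⊓ L := ⟨_, rfl⟩
    have hAP₁ : A ≤ P₁ := hP₁ ▸ le_inf hAP hAL
    have hLle : L ≤ P₁ ⊔ C := by
      intro l hl
      have h1 : QuotientGroup.mk' C l ∈ pCore p (G ⧸ C) := by
        rw [hL] at hl; exact hl
      have hsurj : Function.Surjective (QuotientGroup.mk' C) := QuotientGroup.mk'_surjective C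
      have h2 := Helper18.pCore_le_sylow (P.mapSurjective hsurj) h1
      rw [← SetLike.mem_coe, Sylow.coe_mapSurjective] at h2
      obtain ⟨x, hx, hxl⟩ := h2
      have h3 : x⁻¹ * l ∈ C := QuotientGroup.eq.mp hxl
      have hxL : x ∈ L := by
        have e : x = l * (x⁻¹ * l)⁻¹ := by group
        rw [e]; exact L.mul_mem hl (L.inv_mem (hCL h3))
      have e : l = x * (x⁻¹ * l) := by group
      rw [e]
      exact Subgroup.mul_mem_sup (hP₁ ▸ Subgroup.mem_inf.mpr ⟨hx, hxL⟩) h3
    have htop : C ⊔ Subgroup.normalizer (P₁ : Set G) = ⊤ := by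
      have h1 := frattini_inf_normal P L
      rw [← hP₁] at h1
      rw [eq_top_iff, ← h1]
      apply sup_le _ le_sup_right
      exact hLle.trans (sup_le (Subgroup.le_normalizer.trans le_sup_right) le_sup_left)
    obtain ⟨hAF₁, hsub⟩ := hFmono (P : Subgroup G) P₁ A (hP₁ ▸ inf_le_left) hAF hAP₁
    obtain ⟨W₁, hW₁⟩ : ∃ W₁, W₁ = sInf (F P₁) := ⟨_, rfl⟩
    have hWW₁ : W ≤ W₁ := by
      rw [hW, hW₁]
      exact sInf_le_sInf hsub
    have hnorm : (W₁ ⊓ B).Normal := by
      rw [← Subgroup.normalizer_eq_top_iff, eq_top_iff, ← htop]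
      apply sup_le
      · intro c hc
        apply mem_normalizer_of_conj_mem_sub C _ _ hc
        intro c hc w hw
        have hwB := (Subgroup.mem_inf.mp hw).2
        rw [hC] at hc
        have h1 := Subgroup.mem_centralizer_iff.mp hc w hwB
        rw [← h1, mul_inv_cancel_right]
        exact hw
      · intro g hg
        apply mem_normalizer_of_conj_mem_sub (Subgroup.normalizer (P₁ : Set G)) _ _ hg
        intro g hg w hw
        obtain ⟨hw1, hwB⟩ := Subgroup.mem_inf.mp hw
        refine Subgroup.mem_inf.mpr ⟨?_, hBn.conj_mem w hwB g⟩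
        rw [hW₁] at hw1 ⊢
        exact sInf_conj_mem F hFconj P₁ g hg w hw1
    have hBle : B ≤ W₁ ⊓ B := by
      calc B = Subgroup.normalClosure ((W ⊓ B : Subgroup G) : Set G) := hB₁.symm
        _ ≤ W₁ ⊓ B := Subgroup.normalClosure_le_normal (inf_le_inf_right B hWW₁)
    exact hBA ((hBle.trans inf_le_left).trans (hW₁ ▸ sInf_le hAF₁))

/-- Under `C_G(O_p(G)) ≤ O_p(G)`, the intersection of the family is normal in `G`. -/
theorem zj_normal [Finite G] {p : ℕ} [Fact p.Prime] (F : Subgroup G → Set (Subgroup G))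
    (hFcomm : ∀ P A, A ∈ F P → IsMulCommutative A)
    (hFle : ∀ P A, A ∈ F P → A ≤ P)
    (hFconj : ∀ P A (g : G), A ∈ F P → g ∈ Subgroup.normalizer (P : Set G) →
      A.map (MulAut.conj g).toMonoidHom ∈ F P)
    (hFmono : ∀ P P₁ A, P₁ ≤ P → A ∈ F P → A ≤ P₁ → A ∈ F P₁ ∧ F P₁ ⊆ F P)
    (hFrepl : ∀ P B : Subgroup G, IsPGroup p P → B.Normal → B ≤ P → ∀ A ∈ F P, ⁅B, B⁆ ≤ A →
      ¬ B ≤ A → ∃ A' ∈ F P, ¬ B ≤ A' ∧ B ≤ Subgroup.normalizer (A' : Set G))
    (hst : ∀ (V : Subgroup G) [V.Normal], IsPGroup p V → ∀ a : G,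
      IsPGroup p (Subgroup.zpowers a) → ⁅⁅V, Subgroup.zpowers a⁆, Subgroup.zpowers a⁆ = ⊥ →
      (QuotientGroup.mk a : G ⧸ Subgroup.centralizer (V : Set G)) ∈
        pCore p (G ⧸ Subgroup.centralizer (V : Set G)))
    (hc : Subgroup.centralizer (pCore p G : Set G) ≤ pCore p G)
    (P : Sylow p G) (hne : (F (P : Subgroup G)).Nonempty) :
    (sInf (F (P : Subgroup G))).Normal := by
  obtain ⟨W, hW⟩ : ∃ W, W = sInf (F (P : Subgroup G)) := ⟨_, rfl⟩
  rw [← hW]
  obtain ⟨A, hAF⟩ := hne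
  have hA := hFcomm _ A hAF
  have hWA : W ≤ A := hW ▸ sInf_le hAF
  have hWP : W ≤ P := hWA.trans (hFle _ A hAF)
  have hPW : ∀ x ∈ (P : Subgroup G), ∀ w ∈ W, x * w * x⁻¹ ∈ W := by
    intro x hx w hw
    rw [hW] at hw ⊢
    exact sInf_conj_mem F hFconj P x (Subgroup.le_normalizer hx) w hw
  obtain ⟨Q, hQ⟩ : ∃ Q, Q = pCore p G := ⟨_, rfl⟩
  have hQn : Q.Normal := by rw [hQ]; infer_instance
  have hQp : IsPGroup p Q := hQ ▸ Helper18.pCore_isPGroup p G
  have hQP : Q ≤ P := hQp.le_sylow_of_normal P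
  rw [← hQ] at hc
  have hWQ : W ≤ Q := by
    intro a ha
    have hz : Subgroup.zpowers a ≤ W := Subgroup.zpowers_le.mpr ha
    have h1 : ⁅Q, Subgroup.zpowers a⁆ ≤ W := by
      rw [Subgroup.commutator_le]
      intro q hq z hz'
      have e : ⁅q, z⁆ = (q * z * q⁻¹) * z⁻¹ := by
        simp only [commutatorElement_def]
      rw [e]
      exact W.mul_mem (hPW q (hQP hq) z (hz hz')) (W.inv_mem (hz hz'))
    have hquad : ⁅⁅Q, Subgroup.zpowers a⁆, Subgroup.zpowers a⁆ = ⊥ := by
      rw [Subgroup.commutator_eq_bot_iff_le_centralizer]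
      intro w hw
      show w ∈ Subgroup.centralizer _
      rw [Subgroup.mem_centralizer_iff]
      intro z hz'
      exact setLike_mul_comm (hWA (hz hz')) (hWA (h1 hw))
    have h2 := hst Q hQp a (P.isPGroup'.to_le (hz.trans hWP)) hquad
    have hLn : ((pCore p (G ⧸ Subgroup.centralizer (Q : Set G))).comap
        (QuotientGroup.mk' (Subgroup.centralizer (Q : Set G)))).Normal := inferInstance
    have hLp : IsPGroup p ((pCore p (G ⧸ Subgroup.centralizer (Q : Set G))).comap
        (QuotientGroup.mk' (Subgroup.centralizer (Q : Set G)))) := by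
      apply IsPGroup.comap_of_ker_isPGroup (Helper18.pCore_isPGroup p _)
      rw [QuotientGroup.ker_mk']
      exact hQp.to_le hc
    have h3 := Helper18.le_pCore hLn hLp
    rw [← hQ] at h3
    exact h3 (Subgroup.mem_comap.mpr h2)
  have h := zj_inf_normal F hFcomm hFle hFconj hFmono hFrepl hst P (Nat.card Q) Q hQn hQp le_rfl
  rw [← hW, inf_eq_left.mpr hWQ] at h
  exact h

/-- With equivariance under all automorphisms, the intersection of the family is
characteristic. -/
theorem zj_characteristic [Finite G] {p : ℕ} [Fact p.Prime] (F : Subgroup G → Set (Subgroup G))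
    (hFcomm : ∀ P A, A ∈ F P → IsMulCommutative A)
    (hFle : ∀ P A, A ∈ F P → A ≤ P)
    (hFaut : ∀ (φ : G ≃* G) P A, A ∈ F P → A.map φ.toMonoidHom ∈ F (P.map φ.toMonoidHom))
    (hFmono : ∀ P P₁ A, P₁ ≤ P → A ∈ F P → A ≤ P₁ → A ∈ F P₁ ∧ F P₁ ⊆ F P)
    (hFrepl : ∀ P B : Subgroup G, IsPGroup p P → B.Normal → B ≤ P → ∀ A ∈ F P, ⁅B, B⁆ ≤ A →
      ¬ B ≤ A → ∃ A' ∈ F P, ¬ B ≤ A' ∧ B ≤ Subgroup.normalizer (A' : Set G))
    (hst : ∀ (V : Subgroup G) [V.Normal], IsPGroup p V → ∀ a : G,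
      IsPGroup p (Subgroup.zpowers a) → ⁅⁅V, Subgroup.zpowers a⁆, Subgroup.zpowers a⁆ = ⊥ →
      (QuotientGroup.mk a : G ⧸ Subgroup.centralizer (V : Set G)) ∈
        pCore p (G ⧸ Subgroup.centralizer (V : Set G)))
    (hc : Subgroup.centralizer (pCore p G : Set G) ≤ pCore p G)
    (P : Sylow p G) (hne : (F (P : Subgroup G)).Nonempty) :
    (sInf (F (P : Subgroup G))).Characteristic := by
  have hFconj : ∀ P A (g : G), A ∈ F P → g ∈ Subgroup.normalizer (P : Set G) →
      A.map (MulAut.conj g).toMonoidHom ∈ F P := by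
    intro P A g hA hg
    have h := hFaut (MulAut.conj g) P A hA
    rw [Helper18.map_conj_eq_of_mem_normalizer P hg] at h
    exact h
  have hn := zj_normal F hFcomm hFle hFconj hFmono hFrepl hst hc P hne
  -- automorphisms stabilising P stabilise W
  have hstab : ∀ ψ : G ≃* G, (P : Subgroup G).map ψ.toMonoidHom = P →
      ∀ x ∈ sInf (F (P : Subgroup G)), ψ x ∈ sInf (F (P : Subgroup G)) := by
    intro ψ hψ x hx
    rw [Subgroup.mem_sInf] at hx ⊢
    intro A hA
    have hψ' : (P : Subgroup G).map ψ.symm.toMonoidHom = P := by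
      conv_lhs => rw [← hψ]
      rw [Subgroup.map_map]
      have : ψ.symm.toMonoidHom.comp ψ.toMonoidHom = MonoidHom.id G := by
        ext y; simp
      rw [this, Subgroup.map_id]
    have h1 := hFaut ψ.symm P A hA
    rw [hψ'] at h1
    obtain ⟨y, hy, hyx⟩ := hx _ h1
    have : ψ x = y := by
      rw [← hyx]; simp
    rw [this]; exact hy
  rw [Subgroup.characteristic_iff_map_le]
  intro φ
  rintro _ ⟨x, hx, rfl⟩
  -- the image of P is a Sylow subgroup, conjugate to P
  have hPφ : IsPGroup p ((P : Subgroup G).map φ.toMonoidHom) := P.isPGroup'.map _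
  obtain ⟨g, hg⟩ := Helper18.exists_conj_le_sylow hPφ P
  have hcard : Nat.card ((P : Subgroup G).map (MulAut.conj g).toMonoidHom) ≤
      Nat.card ((P : Subgroup G).map φ.toMonoidHom) := by
    rw [Helper18.card_map_conj, Subgroup.card_map_of_injective φ.injective]
  have heq : (P : Subgroup G).map φ.toMonoidHom = (P : Subgroup G).map (MulAut.conj g).toMonoidHom :=
    Subgroup.eq_of_le_of_card_ge hg hcard
  have hψ : (P : Subgroup G).map (φ.trans (MulAut.conj g⁻¹)).toMonoidHom = P := by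
    have e : (φ.trans (MulAut.conj g⁻¹)).toMonoidHom =
        (MulAut.conj g⁻¹).toMonoidHom.comp φ.toMonoidHom := rfl
    rw [e, ← Subgroup.map_map, heq, ← Helper18.map_conj_mul, inv_mul_cancel,
      Helper18.map_conj_one]
  have h1 := hstab _ hψ x hx
  have h2 := hn.conj_mem _ h1 g
  have e : g * (φ.trans (MulAut.conj g⁻¹)) x * g⁻¹ = φ x := by
    simp
    group
  rw [e] at h2
  exact h2

end zj

end Cfsg.Agent.Lib.Helper6
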