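import Mathlib
import Cfsg.Prelude.Def_Local
import Cfsg.Agent.Lib.Helper6.PSolv3

set_option autoImplicit false

/-!
Subgroups of `p`-solvable groups, and the dual Hall–Higman lemma `C_G(O_{p'}(G)) ≤ O_{p'}(G)`
when `O_p(G) = 1`.
-/

namespace Cfsg.Agent.Lib.Helper6

open Cfsg
open Cfsg.Agent.Lib.Helper14

universe u

section sub

variable {G : Type u} [Group G]

/-- Subgroups of `p`-solvable groups are `p`-solvable. -/
theorem isPSolvable_subgroup {p : ℕ} (hp : p.Prime) (N : Subgroup G) (h : IsPSolvable p G) :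
    IsPSolvable p ↥N := by
  obtain ⟨n, H, h0, hl, hm, hn, hfac⟩ := h
  refine ⟨n, fun i => (H i).subgroupOf N, ?_, ?_, ?_, ?_, ?_⟩
  · show (H 0).subgroupOf N = ⊥
    rw [h0, Subgroup.bot_subgroupOf]
  · show (H (Fin.last n)).subgroupOf N = ⊤
    rw [hl, Subgroup.top_subgroupOf]
  · intro i j hij
    exact Subgroup.comap_mono (hm hij)
  · intro i
    exact (hn i).subgroupOf N
  · intro i
    have hni := hn i.castSucc
    have h1 : ((H i.castSucc).subgroupOf N).relIndex ((H i.succ).subgroupOf N) =
        (H i.castSucc).relIndex (H i.succ ⊓ N) := by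
      rw [← Subgroup.inf_subgroupOf_right (H i.succ) N,
        Subgroup.relIndex_subgroupOf inf_le_right]
    have h2 := PorP'.of_dvd hp (hfac i)
      (relIndex_dvd_of_le_right' (H i.castSucc) (H i.succ ⊓ N) (H i.succ) inf_le_left)
    rw [← h1] at h2
    exact h2

end sub

section dual

variable {G : Type u} [Group G] [Finite G] {p : ℕ} [hp : Fact p.Prime]

/-- The dual Hall–Higman lemma: in a finite `p`-solvable group with `O_p(G) = 1`, the
centralizer of `O_{p'}(G)` lies in `O_{p'}(G)`. -/
theorem centralizer_pPrimeCore_le_of_isPSolvable (hsol : IsPSolvable p G) (hO : pCore p G = ⊥) :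
    Subgroup.centralizer (pPrimeCore p G : Set G) ≤ pPrimeCore p G := by
  by_contra hcon
  have hKn : (pPrimeCore p G).Normal := pPrimeCore_normal p G
  have hCn : (Subgroup.centralizer (pPrimeCore p G : Set G)).Normal := inferInstance
  have hπ : Function.Surjective (QuotientGroup.mk' (pPrimeCore p G)) :=
    QuotientGroup.mk'_surjective _
  have hsol' : IsPSolvable p (G ⧸ pPrimeCore p G) := isPSolvable_quotient hp.out _ hsol
  have hOp : pPrimeCore p (G ⧸ pPrimeCore p G) = ⊥ := pPrimeCore_quotient_pPrimeCore_eq_bot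
  have hNn : ((Subgroup.centralizer (pPrimeCore p G : Set G)).map
      (QuotientGroup.mk' (pPrimeCore p G))).Normal := hCn.map _ hπ
  have hNne : (Subgroup.centralizer (pPrimeCore p G : Set G)).map
      (QuotientGroup.mk' (pPrimeCore p G)) ≠ ⊥ := by
    intro h
    apply hcon
    intro c hc
    have h1 : QuotientGroup.mk' (pPrimeCore p G) c ∈
        (Subgroup.centralizer (pPrimeCore p G : Set G)).map
          (QuotientGroup.mk' (pPrimeCore p G)) := Subgroup.mem_map_of_mem _ hc
    rw [h, Subgroup.mem_bot] at h1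
    exact (QuotientGroup.eq_one_iff c).mp h1
  obtain ⟨Mb, hMle, hMn, hMne, hM⟩ := exists_normal_p_or_p' hp.out hsol' _ hNne
  rcases hM with hM | hM
  swap
  · have h1 := le_pPrimeCore p hMn hM
    rw [hOp] at h1
    exact hMne (le_bot_iff.mp h1)
  · obtain ⟨D, hDdef⟩ : ∃ D : Subgroup G, D = Subgroup.centralizer (pPrimeCore p G : Set G) ⊓
        Mb.comap (QuotientGroup.mk' (pPrimeCore p G)) := ⟨_, rfl⟩
    have hDn : D.Normal := by
      rw [hDdef]
      infer_instance
    have hDC : D ≤ Subgroup.centralizer (pPrimeCore p G : Set G) := hDdef ▸ inf_le_left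
    have hDM : ∀ d ∈ D, QuotientGroup.mk' (pPrimeCore p G) d ∈ Mb := by
      intro d hd
      rw [hDdef] at hd
      exact hd.2
    have hDK : D ≤ pPrimeCore p G := by
      have hZn : ((pPrimeCore p G).subgroupOf D).Normal := hKn.subgroupOf D
      have hZc : (Nat.card ((pPrimeCore p G).subgroupOf D)).Coprime p :=
        Nat.Coprime.coprime_dvd_left
          (Subgroup.card_comap_dvd_of_injective (pPrimeCore p G) D.subtype
            (Subgroup.subtype_injective D)) (pPrimeCore_coprime p)
      have hidx : ∃ k : ℕ, ((pPrimeCore p G).subgroupOf D).index = p ^ k := by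
        have h1 : ((pPrimeCore p G).subgroupOf D).index
            = Nat.card (D.map (QuotientGroup.mk' (pPrimeCore p G))) := by
          have h2 := Subgroup.relIndex_ker (QuotientGroup.mk' (pPrimeCore p G)) (K := D)
          rw [QuotientGroup.ker_mk'] at h2
          exact h2
        have h2 : D.map (QuotientGroup.mk' (pPrimeCore p G)) ≤ Mb := by
          rintro y ⟨d, hd, rfl⟩
          exact hDM d hd
        rw [h1]
        exact IsPGroup.iff_card.mp (hM.to_le h2)
      obtain ⟨k, hk⟩ := hidx
      have hcop : Nat.Coprime (Nat.card ((pPrimeCore p G).subgroupOf D))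
          ((pPrimeCore p G).subgroupOf D).index := by
        rw [hk]
        exact Nat.Coprime.pow_right k hZc
      obtain ⟨P, hP⟩ := Subgroup.exists_right_complement'_of_coprime hcop
      have hPcard : Nat.card P = p ^ k := by
        rw [← hk]
        exact hP.symm.index_eq_card.symm
      have hPpow : ∀ q : ↥D, q ∈ P → (q : G) ^ (p ^ k) = 1 := by
        intro q hq
        have h1 := pow_card_eq_one' (G := P) (x := ⟨q, hq⟩)
        rw [hPcard] at h1
        have h2 : q ^ (p ^ k) = 1 := congrArg Subtype.val h1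
        exact congrArg Subtype.val h2
      have hRp : IsPGroup p (P.map D.subtype) := (IsPGroup.of_card hPcard).map D.subtype
      have hRn : (P.map D.subtype).Normal := by
        constructor
        rintro n ⟨r, hr, rfl⟩ g
        have hmem : g * (r : G) * g⁻¹ ∈ D := hDn.conj_mem _ r.2 g
        obtain ⟨⟨⟨z, hz⟩, ⟨q, hq⟩⟩, hzq⟩ := hP.2 ⟨g * (r : G) * g⁻¹, hmem⟩
        have hprod : (z : G) * (q : G) = g * (r : G) * g⁻¹ := congrArg Subtype.val hzq
        have hzK : (z : G) ∈ pPrimeCore p G := Subgroup.mem_subgroupOf.mp hz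
        have hcomm : (z : G) * (q : G) = (q : G) * (z : G) :=
          Subgroup.mem_centralizer_iff.mp (hDC q.2) (z : G) hzK
        have hqpow := hPpow q hq
        have hrpow := hPpow r hr
        have hconjpow : (g * (r : G) * g⁻¹) ^ (p ^ k) = 1 := by
          rw [conj_pow, hrpow]
          group
        have hzpow : (z : G) ^ (p ^ k) = 1 := by
          have h1 : ((z : G) * (q : G)) ^ (p ^ k) = (z : G) ^ (p ^ k) * (q : G) ^ (p ^ k) :=
            (show Commute (z : G) (q : G) from hcomm).mul_pow _
          rw [hprod, hconjpow, hqpow, mul_one] at h1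
          exact h1.symm
        have hz1 : (z : G) = 1 := by
          have h2 := orderOf_coprime_of_mem_pPrimeCore hzK
          have h3 : orderOf (z : G) ∣ p ^ k := orderOf_dvd_of_pow_eq_one hzpow
          exact orderOf_eq_one_iff.mp (Nat.Coprime.eq_one_of_dvd (h2.pow_right k) h3)
        refine ⟨q, hq, ?_⟩
        show (q : G) = g * (r : G) * g⁻¹
        rw [← hprod, hz1, one_mul]
      have hR := le_pCore p hRn hRp
      rw [hO, le_bot_iff] at hR
      have hPbot : P = ⊥ :=
        (Subgroup.map_eq_bot_iff_of_injective P (Subgroup.subtype_injective D)).mp hR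
      intro d hd
      obtain ⟨⟨⟨z, hz⟩, ⟨q, hq⟩⟩, hzq⟩ := hP.2 ⟨d, hd⟩
      have hprod : (z : G) * (q : G) = d := congrArg Subtype.val hzq
      have hq' : q ∈ P := hq
      rw [hPbot, Subgroup.mem_bot] at hq'
      rw [hq', Subgroup.coe_one, mul_one] at hprod
      rw [← hprod]
      exact Subgroup.mem_subgroupOf.mp hz
    apply hMne
    rw [eq_bot_iff]
    intro y hy
    obtain ⟨c, hc, rfl⟩ := hMle hy
    have hcD : c ∈ D := by
      rw [hDdef]
      exact ⟨hc, hy⟩
    rw [Subgroup.mem_bot]
    exact (QuotientGroup.eq_one_iff c).mpr (hDK hcD)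

end dual

end Cfsg.Agent.Lib.Helper6
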