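import Mathlib
import Cfsg.Prelude.Def_PLocal
import Cfsg.Prelude.Def_Local
import Cfsg.Agent.Lib.Helper18.SylowRel
import Cfsg.Agent.Lib.Helper1.ThompsonAux
import Cfsg.Agent.Lib.Helper6.ZJ

set_option autoImplicit false

/-!
`p`-stability of groups `G` with a normal subgroup `K`, `G / K` a `p`-group, and a normal
`p`-subgroup `H ≤ K` with `K / H` abelian of exponent prime to `p` (`p` odd): a `p`-element acting
quadratically on a normal `p`-subgroup `B ≤ H` lies in `O_p(G mod C_G(B))`.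
-/

namespace Cfsg.Agent.Lib.Helper6

open Cfsg
open scoped commutatorElement

universe u

section pstab

variable {G : Type u} [Group G]

/-- The preimage of `O_p(G / C_G(B))`. -/
def stabCore (p : ℕ) (B : Subgroup G) [B.Normal] : Subgroup G :=
  (pCore p (G ⧸ Subgroup.centralizer (B : Set G))).comap
    (QuotientGroup.mk' (Subgroup.centralizer (B : Set G)))

instance stabCore_normal (p : ℕ) (B : Subgroup G) [B.Normal] : (stabCore p B).Normal := by
  unfold stabCore
  infer_instance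

theorem le_stabCore_of_normal {p : ℕ} (B : Subgroup G) [B.Normal] (D : Subgroup G)
    (hD : D.Normal) (h : ∀ d ∈ D, ∃ j : ℕ, d ^ (p ^ j) ∈ Subgroup.centralizer (B : Set G)) :
    D ≤ stabCore p B := by
  have hn : (D.map (QuotientGroup.mk' (Subgroup.centralizer (B : Set G)))).Normal :=
    hD.map _ (QuotientGroup.mk'_surjective _)
  have hpg : IsPGroup p (D.map (QuotientGroup.mk' (Subgroup.centralizer (B : Set G)))) := by
    rintro ⟨_, d, hd, rfl⟩
    obtain ⟨j, hj⟩ := h d hd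
    refine ⟨j, Subtype.ext ?_⟩
    show (QuotientGroup.mk' (Subgroup.centralizer (B : Set G)) d) ^ (p ^ j) = 1
    rw [← map_pow]
    exact (QuotientGroup.eq_one_iff _).mpr hj
  intro d hd
  unfold stabCore
  rw [Subgroup.mem_comap]
  exact Helper18.le_pCore hn hpg ⟨d, hd, rfl⟩

theorem pow_mem_centralizer_of_mem_stabCore {p : ℕ} (B : Subgroup G) [B.Normal] (l : G)
    (hl : l ∈ stabCore p B) : ∃ j : ℕ, l ^ (p ^ j) ∈ Subgroup.centralizer (B : Set G) := by
  unfold stabCore at hl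
  rw [Subgroup.mem_comap] at hl
  obtain ⟨j, hj⟩ := (Helper18.pCore_isPGroup p (G ⧸ Subgroup.centralizer (B : Set G))) ⟨_, hl⟩
  refine ⟨j, ?_⟩
  have h1 : (QuotientGroup.mk' (Subgroup.centralizer (B : Set G)) l) ^ (p ^ j) = 1 :=
    congrArg Subtype.val hj
  rw [← map_pow] at h1
  exact (QuotientGroup.eq_one_iff _).mp h1

/-- An element centralizing `B₁` and acting trivially on `B / B₁` has a power (the order of
`B₁`) centralizing `B`. -/
theorem pow_card_mem_centralizer_of_stab [Finite G] (B B₁ : Subgroup G) (e : G)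
    (he1 : e ∈ Subgroup.centralizer (B₁ : Set G))
    (he2 : ∀ b ∈ B, e * b * e⁻¹ * b⁻¹ ∈ B₁) :
    e ^ Nat.card B₁ ∈ Subgroup.centralizer (B : Set G) := by
  rw [Subgroup.mem_centralizer_iff]
  intro b hb
  obtain ⟨z, hz⟩ : ∃ z, z = e * b * e⁻¹ * b⁻¹ := ⟨_, rfl⟩
  have hzB : z ∈ B₁ := hz ▸ he2 b hb
  have hez : z * e = e * z := Subgroup.mem_centralizer_iff.mp he1 z hzB
  have hconj : e * b = z * b * e := by rw [hz]; group
  have key : ∀ n : ℕ, e ^ n * b = z ^ n * b * e ^ n := by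
    intro n
    induction n with
    | zero => simp
    | succ n ih =>
      have hezn : e * z ^ n = z ^ n * e := ((Commute.pow_left (show Commute z e from hez) n).eq).symm
      calc e ^ (n + 1) * b = e * (e ^ n * b) := by rw [pow_succ']; group
        _ = e * (z ^ n * b * e ^ n) := by rw [ih]
        _ = (e * z ^ n) * b * e ^ n := by group
        _ = z ^ n * (e * b) * e ^ n := by rw [hezn]; group
        _ = z ^ n * (z * b * e) * e ^ n := by rw [hconj]
        _ = z ^ (n + 1) * b * e ^ (n + 1) := by rw [pow_succ, pow_succ']; group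
  have hz1 : z ^ Nat.card B₁ = 1 := by
    have h := pow_card_eq_one' (G := B₁) (x := ⟨z, hzB⟩)
    have h' : (((⟨z, hzB⟩ : B₁) ^ Nat.card B₁ : B₁) : G) = ((1 : B₁) : G) := congrArg Subtype.val h
    rw [Subgroup.coe_pow] at h'
    exact h'
  have := key (Nat.card B₁)
  rw [hz1, one_mul] at this
  exact this.symm

/-- Step 1: `[x², K]` lies in the preimage of `O_p(G / C_G(B))`. -/
theorem quad_sq_comm_mem_stabCore [Finite G] {p : ℕ} [Fact p.Prime]
    (H K : Subgroup G) [hHn : H.Normal] [hKn : K.Normal] (hHp : IsPGroup p H)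
    (hKab : ∀ a ∈ K, ∀ b ∈ K, a * b * a⁻¹ * b⁻¹ ∈ H)
    (m : ℕ) (hm : m.Coprime p) (hKm : ∀ k ∈ K, k ^ m ∈ H) (x : G) :
    ∀ (n : ℕ) (B : Subgroup G) [B.Normal], B ≤ H → Nat.card B ≤ n →
      (∀ b ∈ B, x * (x * b * x⁻¹ * b⁻¹) = (x * b * x⁻¹ * b⁻¹) * x) →
      ∀ k ∈ K, (x * x) * k * (x * x)⁻¹ * k⁻¹ ∈ stabCore p B := by
  intro n
  induction n with
  | zero =>
    intro B _ _ hcard
    have := Nat.card_pos (α := B)
    omega
  | succ n ih =>
    intro B hBn hBH hcard hquad k hk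
    by_cases hB1 : B = ⊥
    · subst hB1
      have h1 : (⊤ : Subgroup G) ≤ stabCore p (⊥ : Subgroup G) := by
        apply le_stabCore_of_normal _ ⊤ inferInstance
        intro d _
        refine ⟨0, ?_⟩
        rw [Subgroup.mem_centralizer_iff]
        intro h hh
        rw [SetLike.mem_coe, Subgroup.mem_bot] at hh
        rw [hh, one_mul, mul_one]
      exact h1 (Subgroup.mem_top _)
    have hBp : IsPGroup p B := hHp.to_le hBH
    obtain ⟨B₁, hB₁⟩ : ∃ B₁, B₁ = ⁅B, H⁆ := ⟨_, rfl⟩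
    have hB₁n : B₁.Normal := by rw [hB₁]; infer_instance
    have hB₁lt : B₁ < B := by
      rw [hB₁]
      exact Helper1.commutator_lt_of_pgroups hBp hHp
        (by rw [Subgroup.normalizer_eq_top]; exact le_top) hB1
    have hB₁H : B₁ ≤ H := hB₁lt.le.trans hBH
    have hB₁p : IsPGroup p B₁ := hHp.to_le hB₁H
    have hc := card_lt_card_of_lt_sub hB₁lt
    have hIH := @ih B₁ hB₁n hB₁H (by omega) (fun b hb => hquad b (hB₁lt.le hb)) k hk
    -- the quotient by `B₁`
    obtain ⟨π, hπ⟩ : ∃ π : G →* G ⧸ B₁, π = QuotientGroup.mk' B₁ := ⟨_, rfl⟩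
    have hπs : Function.Surjective π := hπ ▸ QuotientGroup.mk'_surjective B₁
    have hπker : ∀ g : G, π g = 1 ↔ g ∈ B₁ := by
      intro g; rw [hπ]; exact QuotientGroup.eq_one_iff g
    have hπeq : ∀ a b : G, a⁻¹ * b ∈ B₁ → π a = π b := by
      intro a b h
      rw [hπ]
      exact QuotientGroup.eq.mpr h
    have hVn : (B.map π).Normal := hBn.map π hπs
    have hKn' : (K.map π).Normal := hKn.map π hπs
    have hVc : ∀ a ∈ B.map π, ∀ b ∈ B.map π, a * b = b * a := by
      rintro _ ⟨a, ha, rfl⟩ _ ⟨b, hb, rfl⟩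
      rw [← map_mul, ← map_mul]
      apply hπeq
      have e : (a * b)⁻¹ * (b * a) = ⁅b⁻¹, a⁻¹⁆ := by
        rw [commutatorElement_def]; group
      rw [e, hB₁]
      exact Subgroup.commutator_mem_commutator (B.inv_mem hb) (H.inv_mem (hBH ha))
    have hHc : ∀ h ∈ H, π h ∈ Subgroup.centralizer ((B.map π : Subgroup (G ⧸ B₁)) : Set (G ⧸ B₁)) := by
      intro h hh
      rw [Subgroup.mem_centralizer_iff]
      rintro _ ⟨b, hb, rfl⟩
      rw [← map_mul, ← map_mul]
      apply hπeq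
      have e : (b * h)⁻¹ * (h * b) = ⁅h⁻¹, b⁻¹⁆ := by
        rw [commutatorElement_def]; group
      rw [e, hB₁, Subgroup.commutator_comm]
      exact Subgroup.commutator_mem_commutator (H.inv_mem hh) (B.inv_mem hb)
    have key := Helper1.quad_centralizes (B.map π) (K.map π) hVc (hBp.map π) ?_ m hm ?_ (π x) ?_
    · have h1 := key (π k) (Subgroup.mem_map_of_mem π hk)
      have h1' : π ((x * x) * k * (x * x)⁻¹ * k⁻¹) ∈
          Subgroup.centralizer ((B.map π : Subgroup (G ⧸ B₁)) : Set (G ⧸ B₁)) := by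
        simp only [map_mul, map_inv]
        exact h1
      -- the stabiliser of the series
      obtain ⟨T, hT⟩ : ∃ T, T = (Subgroup.centralizer
        ((B.map π : Subgroup (G ⧸ B₁)) : Set (G ⧸ B₁))).comap π := ⟨_, rfl⟩
      have hTn : T.Normal := by rw [hT]; infer_instance
      have hTmem : ∀ g ∈ T, ∀ b ∈ B, g * b * g⁻¹ * b⁻¹ ∈ B₁ := by
        intro g hg b hb
        rw [hT, Subgroup.mem_comap, Subgroup.mem_centralizer_iff] at hg
        have h2 := hg (π b) (Subgroup.mem_map_of_mem π hb)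
        rw [← hπker]
        simp only [map_mul, map_inv]
        rw [← h2]
        group
      have hDn : (stabCore p B₁ ⊓ T).Normal := inferInstance
      have hD : stabCore p B₁ ⊓ T ≤ stabCore p B := by
        apply le_stabCore_of_normal B _ hDn
        intro d hd
        obtain ⟨hd1, hd2⟩ := Subgroup.mem_inf.mp hd
        obtain ⟨j, hj⟩ := pow_mem_centralizer_of_mem_stabCore B₁ d hd1
        obtain ⟨i, hi⟩ := IsPGroup.iff_card.mp hB₁p
        refine ⟨j + i, ?_⟩
        have h3 := pow_card_mem_centralizer_of_stab B B₁ (d ^ (p ^ j)) hj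
          (hTmem _ (T.pow_mem hd2 _))
        rw [hi, ← pow_mul, ← pow_add] at h3
        exact h3
      exact hD (Subgroup.mem_inf.mpr ⟨hIH, hT ▸ Subgroup.mem_comap.mpr h1'⟩)
    · rintro _ ⟨a, ha, rfl⟩ _ ⟨b, hb, rfl⟩
      have := hHc _ (hKab a ha b hb)
      simpa only [map_mul, map_inv] using this
    · rintro _ ⟨a, ha, rfl⟩
      have := hHc _ (hKm a ha)
      simpa only [map_pow] using this
    · rintro _ ⟨b, hb, rfl⟩
      have := congrArg π (hquad b hb)
      simpa only [map_mul, map_inv] using this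

/-- `p`-stability for groups with a normal subgroup `K` of `p`-power index and a normal
`p`-subgroup `H ≤ K` such that `K / H` is abelian of exponent prime to `p` (`p` odd). -/
theorem pstable_of_abelian_section [Finite G] {p : ℕ} [Fact p.Prime] (hp2 : p ≠ 2)
    (H K : Subgroup G) [hHn : H.Normal] [hKn : K.Normal] (hHp : IsPGroup p H)
    (hKab : ∀ a ∈ K, ∀ b ∈ K, a * b * a⁻¹ * b⁻¹ ∈ H)
    (m : ℕ) (hm : m.Coprime p) (hKm : ∀ k ∈ K, k ^ m ∈ H)
    (hKidx : ∃ k : ℕ, K.index = p ^ k)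
    (B : Subgroup G) [hBn : B.Normal] (hBH : B ≤ H) (x : G)
    (hx : IsPGroup p (Subgroup.zpowers x))
    (hq : ⁅⁅B, Subgroup.zpowers x⁆, Subgroup.zpowers x⁆ = ⊥) :
    (QuotientGroup.mk x : G ⧸ Subgroup.centralizer (B : Set G)) ∈
      pCore p (G ⧸ Subgroup.centralizer (B : Set G)) := by
  have hp : p.Prime := Fact.out
  have hquad : ∀ b ∈ B, x * (x * b * x⁻¹ * b⁻¹) = (x * b * x⁻¹ * b⁻¹) * x := by
    intro b hb
    have h1 : ⁅b, x⁆ ∈ ⁅B, Subgroup.zpowers x⁆ :=
      Subgroup.commutator_mem_commutator hb (Subgroup.mem_zpowers x)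
    have h2 : ⁅⁅b, x⁆, x⁆ ∈ ⁅⁅B, Subgroup.zpowers x⁆, Subgroup.zpowers x⁆ :=
      Subgroup.commutator_mem_commutator h1 (Subgroup.mem_zpowers x)
    rw [hq, Subgroup.mem_bot, commutatorElement_eq_one_iff_commute] at h2
    have h3 : x * b * x⁻¹ * b⁻¹ = ⁅b, x⁆⁻¹ := by
      rw [commutatorElement_def]
      group
    rw [h3]
    exact (h2.inv_left.eq).symm
  have hstep := quad_sq_comm_mem_stabCore H K hHp hKab m hm hKm x (Nat.card B) B hBH le_rfl hquad
  obtain ⟨L, hL⟩ : ∃ L, L = stabCore p B := ⟨_, rfl⟩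
  have hLn : L.Normal := by rw [hL]; infer_instance
  rw [← hL] at hstep
  suffices hxL : x ∈ L by
    rw [hL] at hxL
    exact hxL
  obtain ⟨P', hP'⟩ := hx.exists_le_sylow
  have hxP' : x ∈ (P' : Subgroup G) := hP' (Subgroup.mem_zpowers x)
  -- `K ⊔ P' = ⊤`
  have hKP : K ⊔ (P' : Subgroup G) = ⊤ := by
    obtain ⟨k, hKidx⟩ := hKidx
    rw [← Subgroup.index_eq_one]
    have h1 : (K ⊔ (P' : Subgroup G)).index ∣ p ^ k :=
      hKidx ▸ Subgroup.index_dvd_of_le le_sup_left
    have h2 : (K ⊔ (P' : Subgroup G)).index ∣ (P' : Subgroup G).index :=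
      Subgroup.index_dvd_of_le le_sup_right
    obtain ⟨j, -, hj⟩ := (Nat.dvd_prime_pow hp).mp h1
    rcases Nat.eq_zero_or_pos j with h0 | hpos
    · rw [hj, h0, pow_zero]
    · exfalso
      apply P'.not_dvd_index
      refine dvd_trans ?_ h2
      rw [hj]
      exact dvd_pow_self p hpos.ne'
  obtain ⟨π, hπ⟩ : ∃ π : G →* G ⧸ L, π = QuotientGroup.mk' L := ⟨_, rfl⟩
  have hπs : Function.Surjective π := hπ ▸ QuotientGroup.mk'_surjective L
  have hπker : ∀ g : G, π g = 1 ↔ g ∈ L := by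
    intro g; rw [hπ]; exact QuotientGroup.eq_one_iff g
  have hKn' : (K.map π).Normal := hKn.map π hπs
  obtain ⟨C₃, hC₃def⟩ : ∃ C₃ : Subgroup G,
      C₃ = (Subgroup.centralizer ((K.map π : Subgroup (G ⧸ L)) : Set (G ⧸ L))).comap π := ⟨_, rfl⟩
  have hC₃n : C₃.Normal := by
    rw [hC₃def]
    exact Subgroup.Normal.comap inferInstance π
  have hC₃mem : ∀ s, s ∈ C₃ ↔ ∀ k ∈ K, s * k * s⁻¹ * k⁻¹ ∈ L := by
    intro s
    rw [hC₃def, Subgroup.mem_comap, Subgroup.mem_centralizer_iff]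
    constructor
    · intro h k hk
      rw [← hπker]
      simp only [map_mul, map_inv]
      rw [← h (π k) (Subgroup.mem_map_of_mem π hk)]
      group
    · rintro h _ ⟨k, hk, rfl⟩
      have h1 := (hπker _).mpr (h k hk)
      simp only [map_mul, map_inv] at h1
      calc π k * π s = (π s * π k * (π s)⁻¹ * (π k)⁻¹)⁻¹ * (π s * π k) := by group
        _ = π s * π k := by rw [h1, inv_one, one_mul]
  obtain ⟨S₃, hS₃def⟩ : ∃ S₃ : Subgroup G, S₃ = C₃ ⊓ (P' : Subgroup G) := ⟨_, rfl⟩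
  have hS₃P : S₃ ≤ (P' : Subgroup G) := hS₃def ▸ inf_le_right
  have hS₃C : S₃ ≤ C₃ := hS₃def ▸ inf_le_left
  have hconj : ∀ g : G, (∀ s ∈ S₃, g * s * g⁻¹ ∈ S₃ ⊔ L) → ∀ d ∈ S₃ ⊔ L, g * d * g⁻¹ ∈ S₃ ⊔ L := by
    intro g hg
    have hle : S₃ ⊔ L ≤ (S₃ ⊔ L).comap (MulAut.conj g).toMonoidHom := by
      apply sup_le
      · intro s hs
        exact Subgroup.mem_comap.mpr (by simpa [MulAut.conj_apply] using hg s hs)
      · intro l hl
        exact Subgroup.mem_comap.mpr (by
          simpa [MulAut.conj_apply] using Subgroup.mem_sup_right (hLn.conj_mem l hl g))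
    intro d hd
    have := Subgroup.mem_comap.mp (hle hd)
    simpa [MulAut.conj_apply] using this
  have hN : K ⊔ (P' : Subgroup G) ≤ Subgroup.normalizer ((S₃ ⊔ L : Subgroup G) : Set G) := by
    refine sup_le ?_ ?_
    · intro k hk
      apply mem_normalizer_of_conj_mem_sub K _ _ hk
      intro k hk
      apply hconj
      intro s hs
      have h1 : s * k * s⁻¹ * k⁻¹ ∈ L := (hC₃mem s).mp (hS₃C hs) k hk
      have h2 : k * s * k⁻¹ = (s * k * s⁻¹ * k⁻¹)⁻¹ * s := by group
      rw [h2]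
      exact Subgroup.mul_mem _ (Subgroup.mem_sup_right (L.inv_mem h1)) (Subgroup.mem_sup_left hs)
    · intro g hg
      apply mem_normalizer_of_conj_mem_sub (P' : Subgroup G) _ _ hg
      intro g hg
      apply hconj
      intro s hs
      apply Subgroup.mem_sup_left
      rw [hS₃def]
      exact Subgroup.mem_inf.mpr ⟨hC₃n.conj_mem s (hS₃C hs) g,
        Subgroup.mul_mem _ (Subgroup.mul_mem _ hg (hS₃P hs)) (Subgroup.inv_mem _ hg)⟩
  rw [hKP, top_le_iff] at hN
  have hDn : (S₃ ⊔ L).Normal := Subgroup.normalizer_eq_top_iff.mp hN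
  have hDle : S₃ ⊔ L ≤ L := by
    refine le_of_le_of_eq ?_ hL.symm
    apply le_stabCore_of_normal B _ hDn
    intro d hd
    have hd' : d ∈ ((S₃ ⊔ L : Subgroup G) : Set G) := hd
    rw [Subgroup.mul_normal] at hd'
    obtain ⟨s, hs, l, hl, rfl⟩ := hd'
    obtain ⟨i, hi⟩ := P'.isPGroup' ⟨s, hS₃P hs⟩
    have hi' : s ^ (p ^ i) = 1 := congrArg Subtype.val hi
    have h1 : (s * l) ^ (p ^ i) ∈ L := by
      rw [← hπker, map_pow, map_mul, (hπker l).mpr hl, mul_one, ← map_pow, hi', map_one]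
    rw [hL] at h1
    obtain ⟨j, hj⟩ := pow_mem_centralizer_of_mem_stabCore B _ h1
    refine ⟨i + j, ?_⟩
    rw [pow_add, pow_mul]
    exact hj
  have hxx : x * x ∈ L := by
    apply hDle
    apply Subgroup.mem_sup_left
    rw [hS₃def]
    exact Subgroup.mem_inf.mpr ⟨(hC₃mem _).mpr hstep, Subgroup.mul_mem _ hxP' hxP'⟩
  have hxx' : x ^ 2 ∈ L := by rw [pow_two]; exact hxx
  apply Helper1.mem_of_pow_mem_of_coprime hxx'
  obtain ⟨j, hj⟩ := P'.isPGroup' ⟨x, hxP'⟩
  have hj' : x ^ (p ^ j) = 1 := congrArg Subtype.val hj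
  have h1 : orderOf x ∣ p ^ j := orderOf_dvd_of_pow_eq_one hj'
  apply Nat.Coprime.coprime_dvd_left h1
  apply Nat.Coprime.pow_left
  rw [Nat.coprime_primes hp Nat.prime_two]
  exact hp2

end pstab

end Cfsg.Agent.Lib.Helper6
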