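import Mathlib
import Cfsg.Agent.Lib.Helper1.ThompsonNPC
import Cfsg.Agent.Lib.Helper6.PStabQ
import Cfsg.Agent.S0658

set_option autoImplicit false
set_option linter.style.haveILetI false

/-!
Glauberman's normal `p`-complement theorem for the centre of the abelian-version Thompson
subgroup (`p` odd): if `N_G(Z(J(P)))` has a normal `p`-complement, so does `G`. The reductions
follow the proof of Thompson's theorem in `Cfsg.Agent.Lib.Helper1`; the final step uses the
ZJ-theorem.
-/

namespace Cfsg.Agent.Lib.Helper6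

open Cfsg
open Cfsg.Agent.Lib.Helper1
open scoped commutatorElement

universe u

variable {G : Type u} [Group G]

/-- The hypothesis of Glauberman's theorem for the `p`-subgroup `S`. -/
def GlHyp (p : ℕ) (S : Subgroup G) : Prop :=
  FrobS p (Subgroup.normalizer ((sInf (famX 0 S) : Subgroup G) : Set G))

/-- The statement of Glauberman's theorem for the group `G'`. -/
def GlStmt (p : ℕ) (G' : Type u) [Group G'] : Prop :=
  ∀ P : Sylow p G', GlHyp p (P : Subgroup G') → FrobCond p G'

theorem sInf_famX_le [Finite G] (S : Subgroup G) : sInf (famX 0 S) ≤ S := by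
  obtain ⟨A₀, hA₀⟩ := famX_nonempty 0 S
  exact (sInf_le hA₀).trans hA₀.1

theorem GlHyp.map_conj [Finite G] {p : ℕ} [Fact p.Prime] {S : Subgroup G} (h : GlHyp p S)
    (g : G) : GlHyp p (S.map (MulAut.conj g).toMonoidHom) := by
  unfold GlHyp at h ⊢
  rw [← map_sInf_famX_of_injOn 0 (MulAut.conj g).toMonoidHom S
    ((MulAut.conj g).injective.injOn), Cfsg.Agent.Lib.Helper14.normalizer_map_conj]
  exact h.map _

theorem GlHyp.sylow [Finite G] {p : ℕ} [Fact p.Prime] {P : Sylow p G}
    (h : GlHyp p (P : Subgroup G)) (P' : Sylow p G) : GlHyp p (P' : Subgroup G) := by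
  obtain ⟨g, hg⟩ := MulAction.exists_smul_eq G P P'
  rw [← hg, Cfsg.Agent.Lib.Helper6.sylow_smul_eq_map]
  exact h.map_conj g

theorem frobS_of_glStmt [Finite G] {p : ℕ} [Fact p.Prime] (L S : Subgroup G) (hth : GlStmt p L)
    (hSL : S ≤ L) (hS : IsPGroup p S) (hidx : ¬ p ∣ S.relIndex L) (h : GlHyp p S) :
    FrobS p L := by
  obtain ⟨P, hP⟩ := exists_sylow_subtype_eq hSL hS hidx
  rw [← frobCond_subtype_iff]
  apply hth P
  unfold GlHyp at h ⊢
  apply FrobS.of_map_injective L.subtype L.subtype_injective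
  refine h.mono ?_
  have e : sInf (famX 0 S) = (sInf (famX 0 (P : Subgroup L))).map L.subtype := by
    rw [map_sInf_famX_of_injOn 0 L.subtype _ (L.subtype_injective.injOn), hP]
  rw [e]
  exact Subgroup.le_normalizer_map L.subtype

theorem GlHyp.quotient [Finite G] {p : ℕ} [Fact p.Prime] (O : Subgroup G) [O.Normal]
    (hO : (Nat.card O).Coprime p) {P : Subgroup G} (hP : IsPGroup p P) (h : GlHyp p P) :
    GlHyp p (P.map (QuotientGroup.mk' O)) := by
  unfold GlHyp at h ⊢
  rw [← map_sInf_famX_of_injOn 0 (QuotientGroup.mk' O) P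
    (Cfsg.Agent.S0667.injOn_mk_of_pgroup O P hO hP)]
  exact (h.map (QuotientGroup.mk' O)).mono
    (normalizer_map_mk_le O hO _ (hP.to_le (sInf_famX_le P)))

set_option maxHeartbeats 1600000 in
theorem glauberman_core [Finite G] {p : ℕ} [Fact p.Prime] (hp2 : p ≠ 2)
    (ih : ∀ L : Subgroup G, Nat.card L < Nat.card G → GlStmt p L)
    (ihq : ∀ (N : Subgroup G) [N.Normal], N ≠ ⊥ → GlStmt p (G ⧸ N))
    (P : Sylow p G) (hyp : GlHyp p (P : Subgroup G)) (H : Subgroup G) [H.Normal]
    (hHp : IsPGroup p H) (hH1 : H ≠ ⊥)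
    (hstar : ∀ K : Subgroup G, IsPGroup p K → Nat.card H < Nat.card K →
      (P : Subgroup G) ≤ Subgroup.normalizer (K : Set G) →
      FrobS p (Subgroup.normalizer (K : Set G))) :
    FrobCond p G := by
  have hp : p.Prime := Fact.out
  by_contra hcon
  have hHP : H ≤ (P : Subgroup G) := normal_pgroup_le_sylow inferInstance hHp P
  -- normal `p`-subgroups lie in `H`
  have hss : ∀ S₁ : Subgroup G, S₁.Normal → IsPGroup p S₁ → S₁ ≤ H := by
    intro S₁ hS₁n hS₁p
    by_contra hnot
    haveI := hS₁n
    have hlt : H < S₁ ⊔ H := by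
      refine lt_of_le_of_ne le_sup_right ?_
      intro h
      exact hnot (h ▸ le_sup_left)
    have hpg : IsPGroup p (S₁ ⊔ H : Subgroup G) := IsPGroup.to_sup_of_normal_right hS₁p hHp
    have h1 := hstar (S₁ ⊔ H) hpg (card_lt_of_lt hlt)
      (by rw [Subgroup.normalizer_eq_top]; exact le_top)
    rw [Subgroup.normalizer_eq_top, frobS_top_iff] at h1
    exact hcon h1
  -- normal `p'`-subgroups are trivial
  have hO : ∀ O : Subgroup G, O.Normal → (Nat.card O).Coprime p → O = ⊥ := by
    intro O hOn hOc
    by_contra hne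
    haveI := hOn
    apply hcon
    apply frobCond_of_quotient O hOc
    apply ihq O hne (P.mapSurjective (QuotientGroup.mk'_surjective O))
    rw [Sylow.coe_mapSurjective]
    exact hyp.quotient O hOc P.isPGroup'
  have hPH : (P : Subgroup G) ≠ H := by
    intro h
    have h1 : Subgroup.normalizer ((sInf (famX 0 (P : Subgroup G)) : Subgroup G) : Set G)
        = ⊤ := by
      rw [eq_top_iff]
      refine le_trans ?_ (Cfsg.Agent.S0658.normalizer_le_normalizer_sInf (P : Subgroup G))
      rw [h, Subgroup.normalizer_eq_top]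
    have h2 : FrobS p (Subgroup.normalizer
      ((sInf (famX 0 (P : Subgroup G)) : Subgroup G) : Set G)) := hyp
    rw [h1, frobS_top_iff] at h2
    exact hcon h2
  -- the quotient by `H`
  obtain ⟨π, hπdef⟩ : ∃ π : G →* G ⧸ H, π = QuotientGroup.mk' H := ⟨_, rfl⟩
  have hπs : Function.Surjective π := hπdef ▸ QuotientGroup.mk'_surjective H
  have hπker : ∀ g : G, π g = 1 ↔ g ∈ H := by
    intro g
    rw [hπdef]
    exact QuotientGroup.eq_one_iff g
  have hcomap_ge : ∀ Xb : Subgroup (G ⧸ H), H ≤ Xb.comap π := by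
    intro Xb h hh
    rw [Subgroup.mem_comap, (hπker h).mpr hh]
    exact Xb.one_mem
  have hcomap_bot : (⊥ : Subgroup (G ⧸ H)).comap π = H := by
    ext g
    rw [Subgroup.mem_comap, Subgroup.mem_bot, hπker]
  obtain ⟨Pb, hPbdef⟩ : ∃ Pb : Sylow p (G ⧸ H),
      (Pb : Subgroup (G ⧸ H)) = (P : Subgroup G).map π :=
    ⟨P.mapSurjective hπs, Sylow.coe_mapSurjective hπs P⟩
  have hcomapPb : (Pb : Subgroup (G ⧸ H)).comap π = P := by
    rw [hPbdef, hπdef, QuotientGroup.comap_map_mk', sup_eq_right.mpr hHP]
  have hkey : ∀ Kb : Subgroup (G ⧸ H), Kb ≤ (Pb : Subgroup (G ⧸ H)) → Kb ≠ ⊥ →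
      (Pb : Subgroup (G ⧸ H)) ≤ Subgroup.normalizer (Kb : Set (G ⧸ H)) →
      FrobS p (Subgroup.normalizer (Kb : Set (G ⧸ H))) := by
    intro Kb hKbP hKb1 hPbN
    obtain ⟨K, hKdef⟩ : ∃ K : Subgroup G, K = Kb.comap π := ⟨_, rfl⟩
    have hKP : K ≤ (P : Subgroup G) := by
      rw [hKdef, ← hcomapPb]
      exact Subgroup.comap_mono hKbP
    have hHK : H ≤ K := hKdef ▸ hcomap_ge Kb
    have hKH : K ≠ H := by
      intro h
      apply hKb1
      rw [← Subgroup.map_comap_eq_self_of_surjective hπs Kb, ← hKdef, h, eq_bot_iff]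
      rintro _ ⟨h, hh, rfl⟩
      exact Subgroup.mem_bot.mpr ((hπker h).mpr hh)
    have hlt : Nat.card H < Nat.card K := card_lt_of_lt (lt_of_le_of_ne hHK (Ne.symm hKH))
    have hNK : Subgroup.normalizer (K : Set G) =
        (Subgroup.normalizer (Kb : Set (G ⧸ H))).comap π := by
      rw [hKdef]
      exact (Subgroup.comap_normalizer_eq_of_surjective Kb hπs).symm
    have hPN : (P : Subgroup G) ≤ Subgroup.normalizer (K : Set G) := by
      rw [hNK, ← hcomapPb]
      exact Subgroup.comap_mono hPbN
    have h1 := hstar K (P.isPGroup'.to_le hKP) hlt hPN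
    have h2 := h1.map π
    rw [hNK, Subgroup.map_comap_eq_self_of_surjective hπs] at h2
    exact h2
  have hPb1 : (Pb : Subgroup (G ⧸ H)) ≠ ⊥ := by
    intro h
    apply hPH
    rw [← hcomapPb, h, hcomap_bot]
  have hPbp : IsPGroup p (Pb : Subgroup (G ⧸ H)) := Pb.isPGroup'
  have hypb : GlHyp p (Pb : Subgroup (G ⧸ H)) := by
    apply hkey _ (sInf_famX_le _) (Cfsg.Agent.S0658.sInf_famX_ne_bot _ hPbp hPb1)
    exact (Subgroup.le_normalizer).trans (Cfsg.Agent.S0658.normalizer_le_normalizer_sInf _)
  have hFb : FrobCond p (G ⧸ H) := ihq H hH1 Pb hypb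
  obtain ⟨Kb, hKbn, hKbc, k, hKbi⟩ := frobCond_iff_npc.mp hFb
  haveI := hKbn
  obtain ⟨K, hKdef⟩ : ∃ K : Subgroup G, K = Kb.comap π := ⟨_, rfl⟩
  haveI hKn : K.Normal := hKdef ▸ hKbn.comap π
  have hHK : H ≤ K := hKdef ▸ hcomap_ge Kb
  have hKmem : ∀ x, x ∈ K ↔ π x ∈ Kb := by
    intro x
    rw [hKdef, Subgroup.mem_comap]
  have hKidx : K.index = p ^ k := by
    rw [hKdef, Subgroup.index_comap_of_surjective _ hπs]
    exact hKbi
  obtain ⟨m, hmdef⟩ : ∃ m : ℕ, m = Nat.card Kb := ⟨_, rfl⟩
  have hm : m.Coprime p := hmdef ▸ hKbc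
  have hKm : ∀ x ∈ K, x ^ m ∈ H := by
    intro x hx
    rw [← hπker, map_pow]
    rw [hKmem] at hx
    have : (⟨π x, hx⟩ : Kb) ^ m = 1 := by
      rw [hmdef]
      exact pow_card_eq_one'
    exact congrArg Subtype.val this
  have hpK : ∀ x ∈ K, (∃ j, x ^ p ^ j = 1) → x ∈ H := by
    rintro x hx ⟨j, hj⟩
    apply mem_of_pow_mem_of_coprime (hKm x hx)
    have h1 : orderOf x ∣ p ^ j := orderOf_dvd_of_pow_eq_one hj
    exact Nat.Coprime.coprime_dvd_left h1 (Nat.Coprime.pow_left j hm.symm)
  have hpKs : ∀ S : Subgroup G, S ≤ K → IsPGroup p S → S ≤ H := by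
    intro S hSK hSp x hx
    obtain ⟨j, hj⟩ := hSp ⟨x, hx⟩
    exact hpK x (hSK hx) ⟨j, congrArg Subtype.val hj⟩
  have hp'K : ∀ g : G, (orderOf g).Coprime p → g ∈ K := by
    intro g hg
    apply mem_of_pow_mem_of_coprime (n := p ^ k) _ (Nat.Coprime.pow_right k hg)
    rw [← hKidx]
    exact Subgroup.pow_index_mem K g
  have hKP : K ⊔ (P : Subgroup G) = ⊤ := by
    rw [← Subgroup.index_eq_one]
    have h1 : (K ⊔ (P : Subgroup G)).index ∣ p ^ k :=
      hKidx ▸ Subgroup.index_dvd_of_le le_sup_left
    have h2 : (K ⊔ (P : Subgroup G)).index ∣ (P : Subgroup G).index :=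
      Subgroup.index_dvd_of_le le_sup_right
    obtain ⟨j, -, hj⟩ := (Nat.dvd_prime_pow hp).mp h1
    rcases Nat.eq_zero_or_pos j with h0 | hpos
    · rw [hj, h0, pow_zero]
    · exfalso
      apply P.not_dvd_index
      refine dvd_trans ?_ h2
      rw [hj]
      exact dvd_pow_self p hpos.ne'
  -- `C_G(H) ≤ H`
  have hCH : Subgroup.centralizer (H : Set G) ≤ H := by
    obtain ⟨C₁, hC₁def⟩ : ∃ C₁ : Subgroup G, C₁ = Subgroup.centralizer (H : Set G) ⊓ K :=
      ⟨_, rfl⟩
    haveI hCn : (Subgroup.centralizer (H : Set G)).Normal := inferInstance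
    haveI hC₁n : C₁.Normal := hC₁def ▸ inferInstance
    have hC₁C : C₁ ≤ Subgroup.centralizer (H : Set G) := hC₁def ▸ inf_le_left
    have hC₁K : C₁ ≤ K := hC₁def ▸ inf_le_right
    obtain ⟨Q⟩ : Nonempty (Sylow p C₁) := inferInstance
    have hQc : (Q : Subgroup C₁) ≤ Subgroup.center C₁ := by
      intro y hy
      obtain ⟨j, hj⟩ := Q.isPGroup' ⟨y, hy⟩
      have hj' : (y : G) ^ p ^ j = 1 := by
        have := congrArg (fun t : (Q : Subgroup C₁) => ((t : C₁) : G)) hj
        simpa using this
      have hyH : (y : G) ∈ H := hpK _ (hC₁K y.2) ⟨j, hj'⟩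
      rw [Subgroup.mem_center_iff]
      intro z
      apply Subtype.ext
      have hz : (z : G) ∈ Subgroup.centralizer (H : Set G) := hC₁C z.2
      exact ((Subgroup.mem_centralizer_iff.mp hz) y hyH).symm
    obtain ⟨M, hMn, hMnd, -, hMmem⟩ :=
      Cfsg.Agent.Lib.Helper14.exists_normal_compl_of_central_sylow' Q hQc
    have hM' : ∀ g : G, g ∈ M.map C₁.subtype ↔ g ∈ C₁ ∧ (orderOf g).Coprime p := by
      intro g
      constructor
      · rintro ⟨y, hy, rfl⟩
        refine ⟨y.2, ?_⟩
        have := (hMmem y).mp hy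
        rwa [← Subgroup.orderOf_coe] at this
      · rintro ⟨hg, hc⟩
        refine ⟨⟨g, hg⟩, (hMmem _).mpr ?_, rfl⟩
        rw [← Subgroup.orderOf_coe]
        exact hc
    have hM'n : (M.map C₁.subtype).Normal := by
      constructor
      intro x hx g
      rw [hM'] at hx ⊢
      refine ⟨hC₁n.conj_mem x hx.1 g, ?_⟩
      have : orderOf (g * x * g⁻¹) = orderOf x := (MulAut.conj g).orderOf_eq x
      rw [this]
      exact hx.2
    have hM'c : (Nat.card (M.map C₁.subtype)).Coprime p := by
      rw [Subgroup.card_map_of_injective C₁.subtype_injective]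
      exact ((Nat.Prime.coprime_iff_not_dvd hp).mpr hMnd).symm
    have hM'1 := hO _ hM'n hM'c
    have hC₁p : ∀ g ∈ C₁, (orderOf g).Coprime p → g = 1 := by
      intro g hg hc
      have : g ∈ M.map C₁.subtype := (hM' g).mpr ⟨hg, hc⟩
      rw [hM'1, Subgroup.mem_bot] at this
      exact this
    have hCp : IsPGroup p (Subgroup.centralizer (H : Set G)) := by
      apply isPGroup_of_forall_coprime_eq_one
      intro g hg hc
      exact hC₁p g (hC₁def ▸ Subgroup.mem_inf.mpr ⟨hg, hp'K g hc⟩) hc
    exact hss _ hCn hCp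
  have htool : ∀ L : Subgroup G, (P : Subgroup G) ≤ L → L ≠ ⊤ →
      ∀ g ∈ L, (orderOf g).Coprime p → g = 1 := by
    intro L hPL hL g hg hc
    have hlt : Nat.card L < Nat.card G := by
      apply lt_of_le_of_ne (Subgroup.card_le_card_group L)
      intro h
      exact hL ((Subgroup.card_eq_iff_eq_top L).mp h)
    have hidx : ¬ p ∣ (P : Subgroup G).relIndex L := by
      intro h
      apply P.not_dvd_index
      rw [← Subgroup.relIndex_mul_index hPL]
      exact dvd_mul_of_dvd_left h _
    have hF : FrobS p L := frobS_of_glStmt L (P : Subgroup G) (ih L hlt) hPL P.isPGroup' hidx hyp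
    have h1 := hF H (hHP.trans hPL) hHp g hg
      (by rw [Subgroup.normalizer_eq_top]; exact Subgroup.mem_top g) hc
    exact eq_one_of_pgroup_of_coprime hHp (hCH h1) hc
  have h4a : ∀ K₂ : Subgroup G, H ≤ K₂ → K₂ ≤ K →
      (P : Subgroup G) ≤ Subgroup.normalizer (K₂ : Set G) → K₂ ≠ K → K₂ ≤ H := by
    intro K₂ hHK₂ hK₂K hPN hne
    have hL : K₂ ⊔ (P : Subgroup G) ≠ ⊤ := by
      intro htop
      apply hne
      apply le_antisymm hK₂K
      intro x hx
      have hx' : x ∈ ((K₂ ⊔ (P : Subgroup G) : Subgroup G) : Set G) := by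
        rw [htop]
        exact Subgroup.mem_top x
      rw [Subgroup.coe_mul_of_right_le_normalizer_left K₂ _ hPN] at hx'
      obtain ⟨a, ha, s, hs, rfl⟩ := hx'
      have hsK : s ∈ K := by
        have : s = a⁻¹ * (a * s) := by group
        rw [this]
        exact K.mul_mem (K.inv_mem (hK₂K ha)) hx
      have hsH : s ∈ H := by
        obtain ⟨j, hj⟩ := P.isPGroup' ⟨s, hs⟩
        exact hpK s hsK ⟨j, congrArg Subtype.val hj⟩
      exact K₂.mul_mem ha (hHK₂ hsH)
    apply hpKs K₂ hK₂K
    apply isPGroup_of_forall_coprime_eq_one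
    intro g hg hc
    exact htool _ le_sup_right hL g (Subgroup.mem_sup_left hg) hc
  have hKH : K ≠ H := by
    intro h
    apply hcon
    have hPtop : (P : Subgroup G) = ⊤ := by
      rw [← hKP, h]
      exact (sup_eq_right.mpr hHP).symm
    rw [frobCond_iff_npc]
    refine ⟨⊥, inferInstance, ?_, ?_⟩
    · rw [Subgroup.card_bot]
      exact Nat.coprime_one_left p
    · obtain ⟨j, hj⟩ := IsPGroup.iff_card.mp P.isPGroup'
      refine ⟨j, ?_⟩
      rw [Subgroup.index_bot, ← hj, hPtop, Subgroup.card_top]
  have hKb1 : Kb ≠ ⊥ := by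
    intro h
    apply hKH
    rw [hKdef, h, hcomap_bot]
  have h4b : ∀ Xb : Subgroup (G ⧸ H), Xb ≤ Kb →
      (Pb : Subgroup (G ⧸ H)) ≤ Subgroup.normalizer (Xb : Set (G ⧸ H)) → Xb ≠ Kb → Xb = ⊥ := by
    intro Xb hXK hPX hne
    have h1 : Xb.comap π ≤ H := by
      apply h4a _ (hcomap_ge Xb)
      · rw [hKdef]
        exact Subgroup.comap_mono hXK
      · rw [← Subgroup.comap_normalizer_eq_of_surjective Xb hπs, ← hcomapPb]
        exact Subgroup.comap_mono hPX
      · intro h
        apply hne
        rw [← Subgroup.map_comap_eq_self_of_surjective hπs Xb, h, hKdef,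
          Subgroup.map_comap_eq_self_of_surjective hπs]
    rw [eq_bot_iff]
    intro y hy
    obtain ⟨g, rfl⟩ := hπs y
    exact Subgroup.mem_bot.mpr ((hπker g).mpr (h1 (Subgroup.mem_comap.mpr hy)))
  -- `K/H` is a `q`-group
  obtain ⟨q, hqdef⟩ : ∃ q : ℕ, q = (Nat.card Kb).minFac := ⟨_, rfl⟩
  have hKbcard : Nat.card Kb ≠ 1 := fun h => hKb1 (Subgroup.eq_bot_of_card_eq Kb h)
  have hq : q.Prime := hqdef ▸ Nat.minFac_prime hKbcard
  haveI : Fact q.Prime := ⟨hq⟩
  have hqdvd : q ∣ Nat.card Kb := hqdef ▸ Nat.minFac_dvd _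
  have hPbKb : (Pb : Subgroup (G ⧸ H)) ≤ Subgroup.normalizer (Kb : Set (G ⧸ H)) := by
    rw [Subgroup.normalizer_eq_top]
    exact le_top
  have hcopb : (Nat.card (Pb : Subgroup (G ⧸ H))).Coprime (Nat.card Kb) := by
    obtain ⟨j, hj⟩ := IsPGroup.iff_card.mp Pb.isPGroup'
    rw [hj]
    exact Nat.Coprime.pow_left j hKbc.symm
  haveI : Group.IsSolvable (Pb : Subgroup (G ⧸ H)) := by
    haveI := Pb.isPGroup'.isNilpotent
    infer_instance
  obtain ⟨Qb, hQb⟩ := exists_invariant_sylow (Pb : Subgroup (G ⧸ H)) Kb hPbKb hcopb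
    (Or.inl inferInstance) q
  obtain ⟨Q₂b, hQ₂bdef⟩ : ∃ Q₂b : Subgroup (G ⧸ H), Q₂b = (Qb : Subgroup Kb).map Kb.subtype :=
    ⟨_, rfl⟩
  rw [← hQ₂bdef] at hQb
  have hQ₂bK : Q₂b ≤ Kb := hQ₂bdef ▸ Subgroup.map_subtype_le _
  have hQ₂beq : Q₂b = Kb := by
    by_contra hne
    have h1 := h4b Q₂b hQ₂bK hQb hne
    have h2 : (Qb : Subgroup Kb) ≠ ⊥ := Qb.ne_bot_of_dvd_card hqdvd
    apply h2
    rw [hQ₂bdef] at h1
    exact (Subgroup.map_eq_bot_iff_of_injective _ Kb.subtype_injective).mp h1
  have hKbq : IsPGroup q Kb := by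
    have h1 : IsPGroup q Q₂b := hQ₂bdef ▸ Qb.isPGroup'.map _
    rw [hQ₂beq] at h1
    exact h1
  have hKbab : ∀ a ∈ Kb, ∀ b ∈ Kb, a * b = b * a := by
    haveI : Nontrivial Kb := (Subgroup.nontrivial_iff_ne_bot _).mpr hKb1
    haveI : Group.IsSolvable Kb := by
      haveI := hKbq.isNilpotent
      infer_instance
    have h1 : ⁅Kb, Kb⁆ ≠ Kb := by
      intro h
      have h2 := Group.IsSolvable.commutator_lt_top_of_nontrivial Kb
      have h3 := Subgroup.map_subtype_commutator Kb
      rw [h] at h3
      apply h2.ne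
      rw [eq_top_iff]
      intro y _
      have h4 : (y : G ⧸ H) ∈ Subgroup.map Kb.subtype (commutator Kb) := by
        rw [h3]
        exact y.2
      obtain ⟨z, hz, hzy⟩ := h4
      have h5 : z = y := Subtype.ext hzy
      rw [← h5]
      exact hz
    have h2 : ⁅Kb, Kb⁆ = ⊥ := by
      apply h4b _ (Subgroup.commutator_le_right Kb Kb) _ h1
      rw [Subgroup.normalizer_eq_top]
      exact le_top
    rw [Subgroup.commutator_eq_bot_iff_le_centralizer] at h2
    intro a ha b hb
    exact (Subgroup.mem_centralizer_iff.mp (h2 hb)) a ha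
  have hKab : ∀ a ∈ K, ∀ b ∈ K, a * b * a⁻¹ * b⁻¹ ∈ H := by
    intro a ha b hb
    rw [← hπker]
    rw [hKmem] at ha hb
    simp only [map_mul, map_inv]
    rw [hKbab _ ha _ hb]
    group
  -- `p`-stability and the ZJ-theorem
  apply hcon
  obtain ⟨k', hk'⟩ : ∃ k' : ℕ, K.index = p ^ k' := ⟨k, hKidx⟩
  have hpc : pCore p G = H := by
    apply le_antisymm
    · exact hss _ (Cfsg.pCore_normal p G) (Cfsg.Agent.Lib.Helper18.pCore_isPGroup p G)
    · exact Cfsg.Agent.Lib.Helper18.le_pCore inferInstance hHp
  have hc : Subgroup.centralizer (pCore p G : Set G) ≤ pCore p G := by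
    rw [hpc]; exact hCH
  have hst : ∀ (V : Subgroup G) [V.Normal], IsPGroup p V → ∀ a : G,
      IsPGroup p (Subgroup.zpowers a) → ⁅⁅V, Subgroup.zpowers a⁆, Subgroup.zpowers a⁆ = ⊥ →
      (QuotientGroup.mk a : G ⧸ Subgroup.centralizer (V : Set G)) ∈
        pCore p (G ⧸ Subgroup.centralizer (V : Set G)) := by
    intro V hVn hVp a ha hq
    exact pstable_of_abelian_section hp2 H K hHp hKab m hm hKm ⟨k', hk'⟩ V (hss V hVn hVp) a ha hq
  have hZn := zj_normal (famX 0) (famX_comm 0) (famX_le 0)
    (fun P A g hA hg => by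
      have h := famX_aut 0 (MulAut.conj g) P A hA
      rw [Cfsg.Agent.Lib.Helper18.map_conj_eq_of_mem_normalizer P hg] at h
      exact h)
    (famX_mono 0)
    (fun P B hP hBn hBP A hA hBA hnot => famX_repl hp2 0 P B hP hBn hBP A hA hBA hnot)
    hst hc P (famX_nonempty 0 _)
  have h2 : FrobS p (Subgroup.normalizer
    ((sInf (famX 0 (P : Subgroup G)) : Subgroup G) : Set G)) := hyp
  rw [Subgroup.normalizer_eq_top_iff.mpr hZn, frobS_top_iff] at h2
  exact h2


set_option maxHeartbeats 1600000 in
theorem glauberman_all (p : ℕ) [Fact p.Prime] (hp2 : p ≠ 2) :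
    ∀ (n : ℕ) (G : Type u) [Group G] [Finite G], Nat.card G ≤ n → GlStmt p G := by
  have hp : p.Prime := Fact.out
  intro n
  induction n using Nat.strong_induction_on with
  | _ n IH =>
    intro G _ _ hn P hyp
    have ih : ∀ L : Subgroup G, Nat.card L < Nat.card G → GlStmt p L :=
      fun L hL => IH (Nat.card L) (by omega) L le_rfl
    have ihq : ∀ (N : Subgroup G) [N.Normal], N ≠ ⊥ → GlStmt p (G ⧸ N) := by
      intro N _ hN
      refine IH (Nat.card (G ⧸ N)) ?_ (G ⧸ N) le_rfl
      have h1 : Nat.card G = Nat.card (G ⧸ N) * Nat.card N :=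
        Subgroup.card_eq_card_quotient_mul_card_subgroup N
      have h2 : 1 < Nat.card N := by
        haveI : Nontrivial N := (Subgroup.nontrivial_iff_ne_bot _).mpr hN
        exact Finite.one_lt_card
      have h3 : 0 < Nat.card (G ⧸ N) := Nat.card_pos
      nlinarith
    have claimA : ∀ (μ : ℕ) (H : Subgroup G), IsPGroup p H → H ≠ ⊥ →
        (Nat.card G - (Nat.card (Subgroup.normalizer (H : Set G))).factorization p) *
          (Nat.card G + 1) + (Nat.card G - Nat.card H) ≤ μ →
        FrobS p (Subgroup.normalizer (H : Set G)) := by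
      intro μ
      induction μ using Nat.strong_induction_on with
      | _ μ IHμ =>
        intro H hHp hH1 hμ
        have hfle : ∀ X : Subgroup G, (Nat.card X).factorization p ≤ Nat.card G :=
          fun X => (Nat.factorization_lt p Nat.card_pos.ne').le.trans (Subgroup.card_le_card_group X)
        have IH' : ∀ K : Subgroup G, IsPGroup p K → K ≠ ⊥ →
            ((Nat.card (Subgroup.normalizer (H : Set G))).factorization p <
                (Nat.card (Subgroup.normalizer (K : Set G))).factorization p ∨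
              ((Nat.card (Subgroup.normalizer (H : Set G))).factorization p ≤
                (Nat.card (Subgroup.normalizer (K : Set G))).factorization p ∧
                Nat.card H < Nat.card K)) →
            FrobS p (Subgroup.normalizer (K : Set G)) := by
          intro K hKp hK1 hlt
          refine IHμ _ ?_ K hKp hK1 le_rfl
          have hfH := hfle (Subgroup.normalizer (H : Set G))
          have hfK := hfle (Subgroup.normalizer (K : Set G))
          have hcH := Subgroup.card_le_card_group H
          have hcK := Subgroup.card_le_card_group K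
          generalize (Nat.card (Subgroup.normalizer (H : Set G))).factorization p = fH at *
          generalize (Nat.card (Subgroup.normalizer (K : Set G))).factorization p = fK at *
          generalize Nat.card H = cH at *
          generalize Nat.card K = cK at *
          generalize Nat.card G = N at *
          rcases hlt with h | ⟨h1, h2⟩
          · have h3 : (N - fK + 1) * (N + 1) ≤ (N - fH) * (N + 1) :=
              Nat.mul_le_mul_right _ (by omega)
            have h4 : N - cK ≤ N := Nat.sub_le _ _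
            nlinarith
          · have h3 : (N - fK) * (N + 1) ≤ (N - fH) * (N + 1) :=
              Nat.mul_le_mul_right _ (by omega)
            omega
        by_cases hNtop : Subgroup.normalizer (H : Set G) = ⊤
        · haveI : H.Normal := Subgroup.normalizer_eq_top_iff.mp hNtop
          rw [hNtop, frobS_top_iff]
          apply glauberman_core hp2 ih ihq P hyp H hHp hH1
          intro K hKp hlt hPK
          apply IH' K hKp _ (Or.inr ⟨_, hlt⟩)
          · rintro rfl
            rw [Subgroup.card_bot] at hlt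
            have : 0 < Nat.card H := Nat.card_pos
            omega
          · have h1 : Nat.card (P : Subgroup G) ∣ Nat.card (Subgroup.normalizer (K : Set G)) :=
              Subgroup.card_dvd_of_le hPK
            rw [P.card_eq_multiplicity] at h1
            have h2 := (hp.pow_dvd_iff_le_factorization Nat.card_pos.ne').mp h1
            refine le_trans ?_ h2
            rw [hNtop, Subgroup.card_top]
        · obtain ⟨S, hHS, hSN, hSp, hSidx⟩ := Cfsg.Agent.Lib.Helper14.exists_relSylow_ge hHp
            (Subgroup.le_normalizer : H ≤ Subgroup.normalizer (H : Set G))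
          have hS1 : S ≠ ⊥ := fun h => hH1 (le_bot_iff.mp (h ▸ hHS))
          have hThS : GlHyp p S := by
            by_cases hidx : p ∣ S.index
            · obtain ⟨P₂, hSP₂⟩ := hSp.exists_le_sylow
              have hSne : S ≠ (P₂ : Subgroup G) := by
                intro h
                apply P₂.not_dvd_index
                rw [← h]
                exact hidx
              have hSlt : S < (P₂ : Subgroup G) := lt_of_le_of_ne hSP₂ hSne
              obtain ⟨x, hxP₂, hxN, hxS⟩ :=
                Cfsg.Agent.Lib.Helper18.exists_mem_normalizer_not_mem P₂.isPGroup' hSlt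
              obtain ⟨T, hTdef⟩ : ∃ T : Subgroup G,
                  T = (P₂ : Subgroup G) ⊓ Subgroup.normalizer (S : Set G) := ⟨_, rfl⟩
              have hST : S < T := by
                refine lt_of_le_of_ne (hTdef ▸ le_inf hSP₂ Subgroup.le_normalizer) ?_
                intro h
                apply hxS
                rw [h, hTdef]
                exact Subgroup.mem_inf.mpr ⟨hxP₂, hxN⟩
              have hTp : IsPGroup p T := P₂.isPGroup'.to_le (hTdef ▸ inf_le_left)
              have hTJ : T ≤ Subgroup.normalizer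
                  ((sInf (famX 0 S) : Subgroup G) : Set G) :=
                (hTdef ▸ inf_le_right : T ≤ Subgroup.normalizer (S : Set G)).trans
                  (Cfsg.Agent.S0658.normalizer_le_normalizer_sInf S)
              have hJ1 : sInf (famX 0 S) ≠ ⊥ := Cfsg.Agent.S0658.sInf_famX_ne_bot S hSp hS1
              have hJp : IsPGroup p (sInf (famX 0 S) : Subgroup G) :=
                hSp.to_le (sInf_famX_le S)
              show FrobS p _
              apply IH' _ hJp hJ1 (Or.inl ?_)
              obtain ⟨j, hj⟩ := IsPGroup.iff_card.mp hSp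
              obtain ⟨i, hi⟩ := IsPGroup.iff_card.mp hTp
              have h1 : S.relIndex (Subgroup.normalizer (H : Set G)) * Nat.card S =
                  Nat.card (Subgroup.normalizer (H : Set G)) :=
                Cfsg.Agent.Lib.Helper6.relIndex_mul_card_of_le hSN
              have hr0 : S.relIndex (Subgroup.normalizer (H : Set G)) ≠ 0 := by
                intro h0
                rw [h0, zero_mul] at h1
                exact Nat.card_pos.ne' h1.symm
              have h2 : (Nat.card (Subgroup.normalizer (H : Set G))).factorization p = j := by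
                rw [← h1, hj, Nat.factorization_mul hr0 (pow_pos hp.pos j).ne',
                  Nat.Prime.factorization_pow hp]
                simp [Nat.factorization_eq_zero_of_not_dvd hSidx]
              have h3 : j < i := by
                have := card_lt_of_lt hST
                rw [hj, hi] at this
                exact (Nat.pow_lt_pow_iff_right hp.one_lt).mp this
              have h4 : Nat.card T ∣ Nat.card (Subgroup.normalizer
                  ((sInf (famX 0 S) : Subgroup G) : Set G)) := Subgroup.card_dvd_of_le hTJ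
              rw [hi] at h4
              have h5 := (hp.pow_dvd_iff_le_factorization Nat.card_pos.ne').mp h4
              omega
            · obtain ⟨P₂, hP₂⟩ := exists_sylow_eq hSp hidx
              rw [← hP₂]
              exact hyp.sylow P₂
          have hlt : Nat.card (Subgroup.normalizer (H : Set G)) < Nat.card G := by
            apply lt_of_le_of_ne (Subgroup.card_le_card_group _)
            intro h
            exact hNtop ((Subgroup.card_eq_iff_eq_top _).mp h)
          exact frobS_of_glStmt _ S (ih _ hlt) hSN hSp hSidx hThS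
    intro Q hQ g hg hcop
    by_cases hQ1 : Q = ⊥
    · rw [hQ1, Subgroup.mem_centralizer_iff]
      intro h hh
      rw [SetLike.mem_coe, Subgroup.mem_bot] at hh
      rw [hh, one_mul, mul_one]
    · exact claimA _ Q hQ hQ1 le_rfl Q Subgroup.le_normalizer hQ g hg hg hcop

/-- **Glauberman's normal `p`-complement theorem** (abelian-version `Z(J(P))`). -/
theorem glauberman_normal_p_complement [Finite G] {p : ℕ} [Fact p.Prime] (hp2 : p ≠ 2)
    (P : Sylow p G)
    (h1 : HasNormalPComplement p
      (Subgroup.normalizer (centerThompsonAOf (P : Subgroup G) : Set G))) :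
    HasNormalPComplement p G := by
  rw [hasNormalPComplement_subgroup_iff, ← sInf_famX_zero] at h1
  rw [hasNormalPComplement_iff_frobCond]
  exact glauberman_all p hp2 (Nat.card G) G le_rfl P h1

end Cfsg.Agent.Lib.Helper6
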