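import Mathlib
import Cfsg.Prelude.Def_PLocal
import Cfsg.Agent.Lib.Helper18.Basic
import Cfsg.Agent.Lib.Helper6.ZJFam
import Cfsg.Agent.Lib.Helper6.Thompson

set_option autoImplicit false

namespace Cfsg.Agent.Lib.Helper6

open Cfsg
open scoped commutatorElement

universe u

section Propagation

variable {G : Type*} [Group G]

/-- Modulo the centralizer of the normal subgroup `V`, commutators with subgroups of `V` do not
change. -/
theorem commutator_zpowers_le_of_mem_centralizer (V U : Subgroup G) [V.Normal] (hUV : U ≤ V)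
    (a s : G) (h : a⁻¹ * s ∈ Subgroup.centralizer (V : Set G)) :
    ⁅U, Subgroup.zpowers s⁆ ≤ ⁅U, Subgroup.zpowers a⁆ := by
  rw [Subgroup.commutator_le]
  intro u hu z hz
  obtain ⟨i, rfl⟩ := Subgroup.mem_zpowers_iff.mp hz
  have h1 : (QuotientGroup.mk (s ^ i) : G ⧸ Subgroup.centralizer (V : Set G))
      = QuotientGroup.mk (a ^ i) := by
    rw [QuotientGroup.mk_zpow, QuotientGroup.mk_zpow]
    congr 1
    exact (QuotientGroup.eq.mpr h).symm
  have h2 : (a ^ i)⁻¹ * s ^ i ∈ Subgroup.centralizer (V : Set G) := QuotientGroup.eq.mp h1.symm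
  have h3 : u⁻¹ * ((a ^ i)⁻¹ * s ^ i) = ((a ^ i)⁻¹ * s ^ i) * u⁻¹ :=
    (Subgroup.mem_centralizer_iff.mp h2) u⁻¹ (V.inv_mem (hUV hu))
  have h4 : ⁅u, s ^ i⁆ = ⁅u, a ^ i⁆ := by
    rw [commutatorElement_def, commutatorElement_def]
    have e1 : s ^ i = a ^ i * ((a ^ i)⁻¹ * s ^ i) := by group
    generalize (a ^ i)⁻¹ * s ^ i = c at h3 e1
    rw [e1]
    calc u * (a ^ i * c) * u⁻¹ * (a ^ i * c)⁻¹ = u * a ^ i * (c * u⁻¹) * c⁻¹ * (a ^ i)⁻¹ := by group
      _ = u * a ^ i * (u⁻¹ * c) * c⁻¹ * (a ^ i)⁻¹ := by rw [h3]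
      _ = u * a ^ i * u⁻¹ * (a ^ i)⁻¹ := by group
  rw [h4]
  exact Subgroup.commutator_mem_commutator hu (Subgroup.zpow_mem_zpowers a i)

theorem map_conj_normal (V : Subgroup G) [hV : V.Normal] (g : G) :
    V.map (MulAut.conj g).toMonoidHom = V :=
  Cfsg.Agent.Lib.Helper18.map_conj_eq_of_mem_normalizer V
    (by rw [Subgroup.normalizer_eq_top]; trivial)

/-- Propagation of "no quadratic action" from `X` to its normal closure under `p`-stability. -/
theorem quad_centralizes_normalClosure [Finite G] {p : ℕ} [Fact p.Prime] (P : Sylow p G)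
    (X V : Subgroup G) [V.Normal] (hV : V = Subgroup.normalClosure (X : Set G))
    (hst : IsPStableOn p V)
    (hNQ : ∀ s ∈ P, ⁅⁅X, Subgroup.zpowers s⁆, Subgroup.zpowers s⁆ = ⊥ →
      ⁅X, Subgroup.zpowers s⁆ = ⊥)
    (a : G) (ha : ⁅⁅V, Subgroup.zpowers a⁆, Subgroup.zpowers a⁆ = ⊥) :
    ⁅V, Subgroup.zpowers a⁆ = ⊥ := by
  have hXV : X ≤ V := by rw [hV]; exact Subgroup.subset_normalClosure
  -- every conjugate of `a` centralizes `X`
  have key : ∀ g : G, g * a * g⁻¹ ∈ Subgroup.centralizer (X : Set G) := by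
    intro g
    have h1 : ⁅⁅V, Subgroup.zpowers (g * a * g⁻¹)⁆, Subgroup.zpowers (g * a * g⁻¹)⁆ = ⊥ := by
      have h2 := congrArg (Subgroup.map (MulAut.conj g).toMonoidHom) ha
      rw [Subgroup.map_commutator, Subgroup.map_commutator, map_conj_normal,
        MonoidHom.map_zpowers, Subgroup.map_bot] at h2
      exact h2
    have h3 := hst (g * a * g⁻¹) h1
    have h4 : pCore p (G ⧸ Subgroup.centralizer (V : Set G)) ≤
        (P : Subgroup G).map (QuotientGroup.mk' (Subgroup.centralizer (V : Set G))) := by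
      have := Cfsg.Agent.Lib.Helper18.pCore_le_sylow
        (P.mapSurjective (QuotientGroup.mk'_surjective (Subgroup.centralizer (V : Set G))))
      rwa [Sylow.coe_mapSurjective] at this
    obtain ⟨s, hs, hs'⟩ := h4 h3
    have h5 : (g * a * g⁻¹)⁻¹ * s ∈ Subgroup.centralizer (V : Set G) :=
      QuotientGroup.eq.mp hs'.symm
    have h6 : s⁻¹ * (g * a * g⁻¹) ∈ Subgroup.centralizer (V : Set G) := by
      have := Subgroup.inv_mem _ h5
      rwa [mul_inv_rev, inv_inv] at this
    -- `s` acts quadratically on `V`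
    have h7 : ⁅⁅V, Subgroup.zpowers s⁆, Subgroup.zpowers s⁆ = ⊥ := by
      rw [eq_bot_iff, ← h1]
      calc ⁅⁅V, Subgroup.zpowers s⁆, Subgroup.zpowers s⁆
          ≤ ⁅⁅V, Subgroup.zpowers (g * a * g⁻¹)⁆, Subgroup.zpowers s⁆ :=
            Subgroup.commutator_mono
              (commutator_zpowers_le_of_mem_centralizer V V le_rfl _ _ h5) le_rfl
        _ ≤ ⁅⁅V, Subgroup.zpowers (g * a * g⁻¹)⁆, Subgroup.zpowers (g * a * g⁻¹)⁆ :=
            commutator_zpowers_le_of_mem_centralizer V _ (Subgroup.commutator_le_left _ _) _ _ h5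
    have h8 : ⁅⁅X, Subgroup.zpowers s⁆, Subgroup.zpowers s⁆ = ⊥ := by
      rw [eq_bot_iff, ← h7]
      exact Subgroup.commutator_mono (Subgroup.commutator_mono hXV le_rfl) le_rfl
    have h9 := hNQ s hs h8
    have h10 : ⁅X, Subgroup.zpowers (g * a * g⁻¹)⁆ = ⊥ := by
      rw [eq_bot_iff, ← h9]
      exact commutator_zpowers_le_of_mem_centralizer V X hXV _ _ h6
    rw [Subgroup.commutator_comm, Subgroup.commutator_eq_bot_iff_le_centralizer] at h10
    exact h10 (Subgroup.mem_zpowers _)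
  -- hence `a` centralizes the normal closure
  rw [Subgroup.commutator_comm, Subgroup.commutator_eq_bot_iff_le_centralizer,
    Subgroup.zpowers_le, hV]
  have h11 : Subgroup.normalClosure (X : Set G) ≤ Subgroup.centralizer ({a} : Set G) := by
    unfold Subgroup.normalClosure
    rw [Subgroup.closure_le]
    intro y hy
    obtain ⟨x, hx, hxy⟩ := Group.mem_conjugatesOfSet_iff.mp hy
    obtain ⟨c, hc⟩ := isConj_iff.mp hxy
    rw [SetLike.mem_coe, Subgroup.mem_centralizer_iff]
    intro b hb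
    rw [Set.mem_singleton_iff] at hb
    subst hb
    have h12 := (Subgroup.mem_centralizer_iff.mp (key c⁻¹)) x hx
    rw [← hc]
    have h13 : b * (c * x * c⁻¹) = c * ((c⁻¹ * b * c⁻¹⁻¹) * x) * c⁻¹ := by group
    rw [h13, ← h12]
    group
  rw [Subgroup.mem_centralizer_iff]
  intro v hv
  have := (Subgroup.mem_centralizer_iff.mp (h11 hv)) a (Set.mem_singleton a)
  exact this.symm

end Propagation


section WS

variable {S : Type u} [Group S]

/-- The family whose infimum is the stable normal closure. -/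
def wsFam (p : ℕ) (S : Type u) [Group S] : Set (Subgroup S) :=
  {W : Subgroup S | omegaOne p (Subgroup.center S) ≤ W ∧
    ∀ (H : Type u) [Group H] (τ : S →* H), IsStableEmbedding p τ → (W.map τ).Normal}

theorem stableNormalClosure_eq_sInf (p : ℕ) (S : Type u) [Group S] :
    stableNormalClosure p S = sInf (wsFam p S) := rfl

theorem omegaOne_center_le_ws (p : ℕ) :
    omegaOne p (Subgroup.center S) ≤ stableNormalClosure p S :=
  le_sInf (fun _ hW => hW.1)

theorem omegaOne_center_spec (p : ℕ) :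
    ∀ y ∈ omegaOne p (Subgroup.center S), y ∈ Subgroup.center S ∧ y ^ p = 1 := by
  intro y hy
  unfold omegaOne at hy
  induction hy using Subgroup.closure_induction with
  | mem x hx => exact hx
  | one => exact ⟨Subgroup.one_mem _, one_pow p⟩
  | mul x y _ _ hx hy =>
    have hc : Commute x y := ((Subgroup.mem_center_iff.mp hx.1) y).symm
    exact ⟨Subgroup.mul_mem _ hx.1 hy.1, by rw [hc.mul_pow, hx.2, hy.2, one_mul]⟩
  | inv x _ hx => exact ⟨Subgroup.inv_mem _ hx.1, by rw [inv_pow, hx.2, inv_one]⟩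

theorem omegaOne_center_le_omegaCenterThompson [Finite S] (p : ℕ) :
    omegaOne p (Subgroup.center S) ≤ omegaCenterThompson p S := by
  rw [omegaCenterThompson_eq_sInf]
  apply le_sInf
  intro A hA
  obtain ⟨-, hAc, hAe, hAmax⟩ := hA
  have hZ := omegaOne_center_spec (S := S) p
  have hZea : IsElementaryAbelian p (omegaOne p (Subgroup.center S)) := by
    refine ⟨⟨⟨fun a b => Subtype.ext ?_⟩⟩, fun z hz => (hZ z hz).2⟩
    exact ((Subgroup.mem_center_iff.mp (hZ b.1 b.2).1) a.1)
  have hsup : IsElementaryAbelian p (A ⊔ omegaOne p (Subgroup.center S)) :=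
    ea_sup ⟨hAc, hAe⟩ hZea (fun a _ b hb => ((Subgroup.mem_center_iff.mp (hZ b hb).1) a))
  have hcard := hAmax (A ⊔ omegaOne p (Subgroup.center S)) le_top hsup.1 hsup.2
  have h1 : A = A ⊔ omegaOne p (Subgroup.center S) :=
    Subgroup.eq_of_le_of_card_ge le_sup_left hcard
  rw [h1]
  exact le_sup_right

theorem closure_normal_of_conj_mem {H : Type*} [Group H] (T : Set H)
    (h : ∀ g : H, ∀ y ∈ T, g * y * g⁻¹ ∈ T) : (Subgroup.closure T).Normal := by
  constructor
  intro n hn g
  have h1 : Subgroup.closure T ≤ (Subgroup.closure T).comap (MulAut.conj g).toMonoidHom := by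
    rw [Subgroup.closure_le]
    intro y hy
    exact Subgroup.subset_closure (h g y hy)
  exact h1 hn

theorem omegaCenterThompson_map_normal {H : Type*} [Group H] (p : ℕ) (τ : S →* H)
    (hτ : Function.Injective τ) (hJ : ((thompsonSubgroup p S).map τ).Normal) :
    ((omegaCenterThompson p S).map τ).Normal := by
  unfold omegaCenterThompson omegaOne
  rw [MonoidHom.map_closure]
  apply closure_normal_of_conj_mem
  rintro g _ ⟨x, ⟨hx1, hxp⟩, rfl⟩
  rw [Subgroup.mem_inf] at hx1
  obtain ⟨hxJ, hxC⟩ := hx1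
  obtain ⟨x', hx'J, hx'⟩ := hJ.conj_mem (τ x) ⟨x, hxJ, rfl⟩ g
  refine ⟨x', ⟨Subgroup.mem_inf.mpr ⟨hx'J, ?_⟩, ?_⟩, hx'⟩
  · rw [Subgroup.mem_centralizer_iff]
    intro j hj
    apply hτ
    rw [map_mul, map_mul, hx']
    obtain ⟨j', hj'J, hj'⟩ := hJ.conj_mem (τ j) ⟨j, hj, rfl⟩ g⁻¹
    rw [inv_inv] at hj'
    have h1 : j' * x = x * j' := (Subgroup.mem_centralizer_iff.mp hxC) j' hj'J
    have h2 : τ j' * τ x = τ x * τ j' := by rw [← map_mul, ← map_mul, h1]
    rw [hj'] at h2
    have h3 : τ j * (g * τ x * g⁻¹) = g * ((g⁻¹ * τ j * g) * τ x) * g⁻¹ := by group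
    rw [h3, h2]
    group
  · apply hτ
    rw [map_pow, hx', map_one, conj_pow, ← map_pow, hxp, map_one, mul_one, mul_inv_cancel]

theorem omegaCenterThompson_mem_wsFam [Finite S] (p : ℕ) :
    omegaCenterThompson p S ∈ wsFam p S :=
  ⟨omegaOne_center_le_omegaCenterThompson p,
    fun _ _ τ hτ => omegaCenterThompson_map_normal p τ hτ.1 hτ.2.2.2.2.1⟩

theorem stableNormalClosure_le_omegaCenterThompson [Finite S] (p : ℕ) :
    stableNormalClosure p S ≤ omegaCenterThompson p S :=
  sInf_le (omegaCenterThompson_mem_wsFam p)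

theorem stableNormalClosure_map_normal [Finite S] {p : ℕ} {H : Type u} [Group H]
    (τ : S →* H) (hτ : IsStableEmbedding p τ) : ((stableNormalClosure p S).map τ).Normal := by
  constructor
  rintro _ ⟨w, hw, rfl⟩ g
  have hΩ := omegaCenterThompson_mem_wsFam (S := S) p
  have hΩn : ((omegaCenterThompson p S).map τ).Normal := hΩ.2 H τ hτ
  have hw' : w ∈ sInf (wsFam p S) := hw
  rw [Subgroup.mem_sInf] at hw'
  obtain ⟨w', -, hw'eq⟩ := hΩn.conj_mem (τ w) ⟨w, hw' _ hΩ, rfl⟩ g
  refine ⟨w', ?_, hw'eq⟩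
  show w' ∈ sInf (wsFam p S)
  rw [Subgroup.mem_sInf]
  intro W' hW'
  have hW'n : (W'.map τ).Normal := hW'.2 H τ hτ
  obtain ⟨w'', hw''W, hw''eq⟩ := hW'n.conj_mem (τ w) ⟨w, hw' _ hW', rfl⟩ g
  have : w'' = w' := hτ.1 (hw''eq.trans hw'eq.symm)
  rw [← this]
  exact hw''W

theorem stableNormalClosure_mem_wsFam [Finite S] (p : ℕ) :
    stableNormalClosure p S ∈ wsFam p S :=
  ⟨omegaOne_center_le_ws p, fun _ _ τ hτ => stableNormalClosure_map_normal τ hτ⟩

/-- No element acts quadratically and nontrivially on the stable normal closure. -/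
theorem stableNormalClosure_noQuad [Finite S] {p : ℕ} [Fact p.Prime] (x : S)
    (hq : ⁅⁅stableNormalClosure p S, Subgroup.zpowers x⁆, Subgroup.zpowers x⁆ = ⊥) :
    ⁅stableNormalClosure p S, Subgroup.zpowers x⁆ = ⊥ := by
  classical
  obtain ⟨W, hWdef⟩ : ∃ W, W = stableNormalClosure p S := ⟨_, rfl⟩
  rw [← hWdef] at hq ⊢
  let PP : Set (Subgroup S) := {X | omegaOne p (Subgroup.center S) ≤ X ∧ X ≤ W ∧
    ∀ s : S, ⁅⁅X, Subgroup.zpowers s⁆, Subgroup.zpowers s⁆ = ⊥ → ⁅X, Subgroup.zpowers s⁆ = ⊥}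
  have hne : PP.Nonempty := by
    refine ⟨omegaOne p (Subgroup.center S), le_rfl, hWdef ▸ omegaOne_center_le_ws p, ?_⟩
    intro s _
    rw [Subgroup.commutator_eq_bot_iff_le_centralizer]
    intro y hy
    exact Subgroup.center_le_centralizer _ (omegaOne_center_spec p y hy).1
  obtain ⟨X, hX, hXmax⟩ := (Set.toFinite PP).exists_maximal hne
  have hXfam : X ∈ wsFam p S := by
    refine ⟨hX.1, ?_⟩
    intro H _ τ hτ
    have hWn : (W.map τ).Normal := hWdef ▸ stableNormalClosure_map_normal τ hτ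
    obtain ⟨hinj, hfin, ⟨P, hP⟩, -, -, hstab⟩ := hτ
    obtain ⟨V, hVdef⟩ : ∃ V, V = Subgroup.normalClosure ((X.map τ : Subgroup H) : Set H) :=
      ⟨_, rfl⟩
    have hVn : V.Normal := hVdef ▸ Subgroup.normalClosure_normal
    have hVW : V ≤ W.map τ := by
      rw [hVdef]
      exact Subgroup.normalClosure_le_normal (Subgroup.map_mono hX.2.1)
    have hVΩ : V ≤ (omegaCenterThompson p S).map τ :=
      hVW.trans (Subgroup.map_mono (hWdef ▸ stableNormalClosure_le_omegaCenterThompson p))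
    have hVst : IsPStableOn p V := hstab V hVΩ
    have hXX' : X ≤ V.comap τ := by
      intro y hy
      rw [Subgroup.mem_comap, hVdef]
      exact Subgroup.subset_normalClosure ⟨y, hy, rfl⟩
    have hX'W : V.comap τ ≤ W := by
      intro y hy
      obtain ⟨w, hw, hwy⟩ := hVW hy
      rw [← hinj hwy]
      exact hw
    have hX'map : (V.comap τ).map τ = V := by
      rw [Subgroup.map_comap_eq, inf_eq_right]
      exact hVW.trans (Subgroup.map_le_range τ W)
    have hX'NQ : ∀ s : S, ⁅⁅V.comap τ, Subgroup.zpowers s⁆, Subgroup.zpowers s⁆ = ⊥ →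
        ⁅V.comap τ, Subgroup.zpowers s⁆ = ⊥ := by
      intro s hs
      have h1 : ⁅⁅V, Subgroup.zpowers (τ s)⁆, Subgroup.zpowers (τ s)⁆ = ⊥ := by
        have := congrArg (Subgroup.map τ) hs
        rwa [Subgroup.map_commutator, Subgroup.map_commutator, MonoidHom.map_zpowers,
          hX'map, Subgroup.map_bot] at this
      have h2 := quad_centralizes_normalClosure P (X.map τ) V hVdef hVst (by
        intro s' hs' hq'
        have hs'' : s' ∈ τ.range := by rw [← hP]; exact hs'
        obtain ⟨t, rfl⟩ := hs''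
        have h3 : (⁅⁅X, Subgroup.zpowers t⁆, Subgroup.zpowers t⁆).map τ = ⊥ := by
          rw [Subgroup.map_commutator, Subgroup.map_commutator, MonoidHom.map_zpowers]
          exact hq'
        rw [Subgroup.map_eq_bot_iff_of_injective _ hinj] at h3
        have h4 := hX.2.2 t h3
        rw [← MonoidHom.map_zpowers, ← Subgroup.map_commutator, h4, Subgroup.map_bot]) (τ s) h1
      have h5 : (⁅V.comap τ, Subgroup.zpowers s⁆).map τ = ⊥ := by
        rw [Subgroup.map_commutator, MonoidHom.map_zpowers, hX'map]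
        exact h2
      exact (Subgroup.map_eq_bot_iff_of_injective _ hinj).mp h5
    have hX'P : V.comap τ ∈ PP := ⟨hX.1.trans hXX', hX'W, hX'NQ⟩
    have hle : V.comap τ ≤ X := hXmax hX'P hXX'
    have heq : V.comap τ = X := le_antisymm hle hXX'
    rw [← heq, hX'map]
    exact hVn
  have hWX : W ≤ X := hWdef ▸ sInf_le hXfam
  have hXW : X = W := le_antisymm hX.2.1 hWX
  have := hX.2.2 x (by rw [hXW]; exact hq)
  rwa [hXW] at this

end WS

end Cfsg.Agent.Lib.Helper6
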