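import Mathlib
import Cfsg.Agent.Lib.Helper6.WS
import Cfsg.Agent.Lib.Helper6.ZJ
import Cfsg.Agent.Lib.Helper6.ThompsonG
import Cfsg.Agent.Lib.Helper1.Coprime
import Cfsg.Agent.Lib.Helper1.ThompsonAux
import Cfsg.Agent.Lib.Helper14.SylowRel
import Cfsg.Agent.S0649
import Cfsg.Agent.S0650

set_option autoImplicit false

namespace Cfsg.Agent.Lib.Helper6

open Cfsg
open scoped commutatorElement

universe u

section WSNormal

variable {G : Type u} [Group G]

/-- The kernel of the action on `Q/Φ(Q)` is a `p`-group when the normal `p`-subgroup `Q`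
contains its centralizer. -/
theorem sectionKernel_frattini_isPGroup_aux [Finite G] {p : ℕ} [Fact p.Prime]
    (Q : Subgroup G) [hQn : Q.Normal] (hQp : IsPGroup p Q)
    (hc : Subgroup.centralizer (Q : Set G) ≤ Q) (Φ : Subgroup G) [hΦn : Φ.Normal]
    (hΦdef : Φ = (frattini ↥Q).map Q.subtype) :
    IsPGroup p (sectionKernel Q Φ) := by
  have hp : p.Prime := Fact.out
  apply Cfsg.Agent.Lib.Helper1.isPGroup_of_forall_coprime_eq_one
  intro x hx hcop
  have hΦQ : Φ ≤ Q := hΦdef ▸ Subgroup.map_subtype_le _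
  have hker : ∀ z ∈ sectionKernel Q Φ, ∀ q ∈ Q, ⁅q, z⁆ ∈ Φ := by
    intro z hz q hq
    have h1 : QuotientGroup.mk' Φ z ∈ Subgroup.centralizer
        ((Q.map (QuotientGroup.mk' Φ) : Subgroup (G ⧸ Φ)) : Set (G ⧸ Φ)) := hz
    have h2 := (Subgroup.mem_centralizer_iff.mp h1) (QuotientGroup.mk' Φ q) ⟨q, hq, rfl⟩
    rw [commutatorElement_def, ← QuotientGroup.eq_one_iff]
    have h3 : ((q * z * q⁻¹ * z⁻¹ : G) : G ⧸ Φ) =
        (QuotientGroup.mk' Φ q * QuotientGroup.mk' Φ z) *
          (QuotientGroup.mk' Φ z * QuotientGroup.mk' Φ q)⁻¹ := by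
      simp only [QuotientGroup.mk'_apply, QuotientGroup.mk_mul, QuotientGroup.mk_inv]
      group
    rw [h3, h2, mul_inv_cancel]
  have hcomm : ⁅Q, Subgroup.zpowers x⁆ ≤ Φ := by
    rw [Subgroup.commutator_le]
    intro q hq z hz
    exact hker z (Subgroup.zpowers_le.mpr hx hz) q hq
  have hcop' : (Nat.card (Subgroup.zpowers x)).Coprime (Nat.card Q) := by
    obtain ⟨n, hn⟩ := IsPGroup.iff_card.mp hQp
    rw [Nat.card_zpowers, hn]
    exact Nat.Coprime.pow_right n hcop
  have hsolv : Group.IsSolvable (Subgroup.zpowers x) ∨ Group.IsSolvable Q := by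
    right
    have := hQp.isNilpotent
    infer_instance
  have hsup := Cfsg.Agent.Lib.Helper1.coprime_commutator_sup (Subgroup.zpowers x) Q
    (by rw [Subgroup.normalizer_eq_top]; exact le_top) hcop' hsolv
  have htop : (Subgroup.centralizer ((Subgroup.zpowers x : Subgroup G) : Set G)).subgroupOf Q
      ⊔ frattini ↥Q = ⊤ := by
    apply Subgroup.map_injective Q.subtype_injective
    rw [Subgroup.map_sup, Subgroup.subgroupOf_map_subtype, ← hΦdef, ← MonoidHom.range_eq_map,
      Subgroup.range_subtype]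
    apply le_antisymm (sup_le inf_le_right hΦQ)
    conv_lhs => rw [← hsup]
    apply sup_le
    · exact hcomm.trans le_sup_right
    · rw [inf_comm]; exact le_sup_left
  have h4 := frattini_nongenerating htop
  have hxc : x ∈ Subgroup.centralizer (Q : Set G) := by
    rw [Subgroup.mem_centralizer_iff]
    intro q hq
    have h5 : (⟨q, hq⟩ : Q) ∈
        (Subgroup.centralizer ((Subgroup.zpowers x : Subgroup G) : Set G)).subgroupOf Q := by
      rw [h4]; trivial
    rw [Subgroup.mem_subgroupOf] at h5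
    exact ((Subgroup.mem_centralizer_iff.mp h5) x (Subgroup.mem_zpowers x)).symm
  exact Cfsg.Agent.Lib.Helper1.eq_one_of_pgroup_of_coprime hQp (hc hxc) hcop

theorem sectionKernel_frattini_isPGroup [Finite G] {p : ℕ} [Fact p.Prime]
    (hc : Subgroup.centralizer (pCore p G : Set G) ≤ pCore p G) :
    IsPGroup p (sectionKernel (pCore p G) ((frattini ↥(pCore p G)).map (pCore p G).subtype)) :=
  sectionKernel_frattini_isPGroup_aux (pCore p G) (Cfsg.Agent.Lib.Helper18.pCore_isPGroup p G) hc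
    _ rfl

/-- Under section `p`-stability, elements acting quadratically on `O_p(G)` lie in `O_p(G)`. -/
theorem mem_pCore_of_quad_section [Finite G] {p : ℕ} [Fact p.Prime]
    (hc : Subgroup.centralizer (pCore p G : Set G) ≤ pCore p G)
    (hsec : IsPStableOnSection p (pCore p G) ((frattini ↥(pCore p G)).map (pCore p G).subtype))
    (a : G)
    (ha : ⁅⁅pCore p G, Subgroup.zpowers a⁆, Subgroup.zpowers a⁆ = ⊥) : a ∈ pCore p G := by
  obtain ⟨D, hDn, hCD, ⟨k, hk⟩, haD⟩ := hsec a (by rw [ha]; exact bot_le)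
  have hCp := sectionKernel_frattini_isPGroup hc
  obtain ⟨j, hj⟩ := IsPGroup.iff_card.mp hCp
  have hDp : IsPGroup p D := by
    apply IsPGroup.of_card (n := k + j)
    rw [← relIndex_mul_card_of_le hCD, hk, hj, pow_add]
  exact Cfsg.Agent.Lib.Helper18.le_pCore hDn hDp haD

end WSNormal


section Repl

variable {T : Type u} [Group T]

/-- If quadratically acting elements centralize the normal elementary abelian subgroup `B` of the
`p`-group `T`, then every elementary abelian subgroup of largest order centralizes `B`. -/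
theorem maxEA_le_centralizer_of_quad [Finite T] {p : ℕ} [Fact p.Prime]
    (hT : IsPGroup p T) (B : Subgroup T) [hBn : B.Normal] (hB : IsElementaryAbelian p B)
    (hquad : ∀ s : T, ⁅⁅B, Subgroup.zpowers s⁆, Subgroup.zpowers s⁆ = ⊥ →
      ⁅B, Subgroup.zpowers s⁆ = ⊥) :
    ∀ A ∈ maxElementaryAbelianSubgroups p T, A ≤ Subgroup.centralizer (B : Set T) := by
  classical
  by_contra hcon
  push Not at hcon
  let Bad : Set (Subgroup T) :=
    {A | A ∈ maxElementaryAbelianSubgroups p T ∧ ¬ A ≤ Subgroup.centralizer (B : Set T)}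
  have hBadne : Bad.Nonempty := by
    obtain ⟨A, hA, hAn⟩ := hcon
    exact ⟨A, hA, hAn⟩
  obtain ⟨A, hABad, hAmax⟩ := Set.exists_max_image Bad (fun A => Nat.card ↥(A ⊓ B))
    (Set.toFinite Bad) hBadne
  obtain ⟨hAmem, hAnc⟩ := hABad
  obtain ⟨⟨hAc, hAe⟩, hAcard⟩ := hAmem
  by_cases hBN : B ≤ Subgroup.normalizer (A : Set T)
  · apply hAnc
    intro a ha
    have h1 : ⁅⁅B, A⁆, A⁆ = ⊥ := by
      have h2 : ⁅B, A⁆ ≤ A := by
        rw [Subgroup.commutator_comm]
        exact Cfsg.Agent.Lib.Helper1.commutator_le_of_le_normalizer hBN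
      rw [eq_bot_iff]
      calc ⁅⁅B, A⁆, A⁆ ≤ ⁅A, A⁆ := Subgroup.commutator_mono h2 le_rfl
        _ = ⊥ := by
          rw [Subgroup.commutator_eq_bot_iff_le_centralizer]
          exact Subgroup.le_centralizer_iff_isMulCommutative.mpr hAc
    have h3 : ⁅⁅B, Subgroup.zpowers a⁆, Subgroup.zpowers a⁆ = ⊥ := by
      rw [eq_bot_iff, ← h1]
      exact Subgroup.commutator_mono
        (Subgroup.commutator_mono le_rfl (Subgroup.zpowers_le.mpr ha)) (Subgroup.zpowers_le.mpr ha)
    have h4 := hquad a h3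
    rw [Subgroup.commutator_comm, Subgroup.commutator_eq_bot_iff_le_centralizer] at h4
    exact h4 (Subgroup.mem_zpowers a)
  · have hBB : ⁅B, B⁆ ≤ A := by
      have : ⁅B, B⁆ = ⊥ := by
        rw [Subgroup.commutator_eq_bot_iff_le_centralizer]
        exact Subgroup.le_centralizer_iff_isMulCommutative.mpr hB.1
      rw [this]
      exact bot_le
    obtain ⟨b, hb, hbNN, hbN⟩ := Cfsg.Agent.S0649.result hT B (fun _ => hB.1) A hAc hBB hBN
    obtain ⟨hcard, hcomm, -, hlt, hltB, -⟩ :=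
      Cfsg.Agent.S0650.result hT B (fun _ => hB.1) A hAc hBB hBN b hb hbNN hbN
    obtain ⟨Astar, hAstar⟩ : ∃ Astar, Astar = (A ⊓ A.map (MulAut.conj (b⁻¹)).toMonoidHom) ⊔
        Subgroup.closure {g : T | ∃ a ∈ A, g = a * b⁻¹ * a⁻¹ * b} := ⟨_, rfl⟩
    have hexp : ∀ y ∈ Astar, y ^ p = 1 := by
      rw [hAstar]
      apply pow_eq_one_of_mem_sup_comm _ _ hcomm p
      · intro y hy
        exact hAe y hy.1
      · intro y hy
        have hle : Subgroup.closure {g : T | ∃ a ∈ A, g = a * b⁻¹ * a⁻¹ * b} ≤ B := by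
          rw [Subgroup.closure_le]
          rintro _ ⟨a, -, rfl⟩
          have h1 : a * b⁻¹ * a⁻¹ ∈ B := hBn.conj_mem b⁻¹ (B.inv_mem hb) a
          exact B.mul_mem h1 hb
        exact hB.2 y (hle hy)
    rw [← hAstar] at hcard hcomm hlt hltB
    have hAstarMem : Astar ∈ maxElementaryAbelianSubgroups p T :=
      ⟨⟨hcomm, hexp⟩, fun B' hB' => (hAcard B' hB').trans hcard.ge⟩
    have hAstarC : Astar ≤ Subgroup.centralizer (B : Set T) := by
      by_contra hnc
      have h1 := hAmax Astar ⟨hAstarMem, hnc⟩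
      exact absurd h1 (not_le.mpr (card_lt_card_of_lt_sub hlt))
    have hsup : IsElementaryAbelian p (Astar ⊔ B) :=
      ea_sup ⟨hcomm, hexp⟩ hB
        (fun a ha b' hb' => ((Subgroup.mem_centralizer_iff.mp (hAstarC ha)) b' hb').symm)
    have hcard2 := hAstarMem.2 (Astar ⊔ B) hsup
    have h5 : Astar = Astar ⊔ B := Subgroup.eq_of_le_of_card_ge le_sup_left hcard2
    have h6 : B ≤ Astar := by
      rw [h5]
      exact le_sup_right
    have h7 : Astar ⊓ B = B := inf_eq_right.mpr h6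
    rw [h7] at hltB
    exact lt_irrefl _ hltB

end Repl


section WSNormal2

variable {G : Type u} [Group G]

theorem isStableEmbedding_inclusion [Finite G] {p : ℕ} [Fact p.Prime] (hst : IsActionPStable p G)
    (hc : Subgroup.centralizer (pCore p G : Set G) ≤ pCore p G) (S : Sylow p G)
    (hSN : (S : Subgroup G) ≤
      Subgroup.normalizer (thompsonSubgroupOf p (S : Subgroup G) : Set G)) :
    IsStableEmbedding p (Subgroup.inclusion hSN) := by
  refine ⟨Subgroup.inclusion_injective hSN, inferInstance, ⟨S.subtype hSN, ?_⟩, ?_, ?_, ?_⟩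
  · rw [Sylow.coe_subtype, Subgroup.inclusion_range]
  · intro x hx
    have hQ'n : ((pCore p G).subgroupOf
        (Subgroup.normalizer (thompsonSubgroupOf p (S : Subgroup G) : Set G))).Normal :=
      inferInstance
    have hQ'p : IsPGroup p ((pCore p G).subgroupOf
        (Subgroup.normalizer (thompsonSubgroupOf p (S : Subgroup G) : Set G))) :=
      (Cfsg.Agent.Lib.Helper18.pCore_isPGroup p G).comap_subtype
    have hQ'le := Cfsg.Agent.Lib.Helper18.le_pCore hQ'n hQ'p
    apply hQ'le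
    rw [Subgroup.mem_subgroupOf]
    apply hc
    rw [Subgroup.mem_centralizer_iff]
    intro q hq
    have hqN : q ∈ Subgroup.normalizer (thompsonSubgroupOf p (S : Subgroup G) : Set G) :=
      hSN (Cfsg.Agent.Lib.Helper18.pCore_le_sylow S hq)
    have h1 := (Subgroup.mem_centralizer_iff.mp hx) ⟨q, hqN⟩
      (hQ'le (Subgroup.mem_subgroupOf.mpr hq))
    exact congrArg Subtype.val h1
  · constructor
    rintro _ ⟨j, hj, rfl⟩ g
    have h1 : (g : G) * (j : G) * (g : G)⁻¹ ∈ thompsonSubgroupOf p (S : Subgroup G) :=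
      (Subgroup.mem_normalizer_iff.mp g.2 _).mp ⟨j, hj, rfl⟩
    obtain ⟨j', hj', hj'eq⟩ := h1
    exact ⟨j', hj', Subtype.ext hj'eq⟩
  · intro V _ hV
    apply hst.2.2 S V
    rintro _ ⟨v, hv, rfl⟩
    obtain ⟨w, hw, hwv⟩ := hV hv
    exact ⟨w, hw, by rw [← hwv]; rfl⟩

theorem normalClosure_ea_of_noQuad [Finite G] {p : ℕ} [Fact p.Prime] (P : Sylow p G)
    (Wg : Subgroup G) (hWea : IsElementaryAbelian p Wg) (hWQ : Wg ≤ pCore p G)
    (hPW : (P : Subgroup G) ≤ Subgroup.normalizer (Wg : Set G))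
    (hNQ : ∀ s ∈ P, ⁅⁅Wg, Subgroup.zpowers s⁆, Subgroup.zpowers s⁆ = ⊥ →
      ⁅Wg, Subgroup.zpowers s⁆ = ⊥) :
    IsElementaryAbelian p (Subgroup.normalClosure (Wg : Set G)) := by
  have hQP : pCore p G ≤ P := Cfsg.Agent.Lib.Helper18.pCore_le_sylow P
  have hQn : (pCore p G).Normal := inferInstance
  have key1 : ∀ g : G, ∀ w ∈ Wg, ∀ w' ∈ Wg, (g * w * g⁻¹) * w' = w' * (g * w * g⁻¹) := by
    intro g w hw w' hw'
    have hyQ : g * w * g⁻¹ ∈ pCore p G := hQn.conj_mem w (hWQ hw) g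
    obtain ⟨Wg', hWg'⟩ : ∃ Wg', Wg' = Wg.map (MulAut.conj g).toMonoidHom := ⟨_, rfl⟩
    have hyW' : g * w * g⁻¹ ∈ Wg' := by
      rw [hWg']
      exact ⟨w, hw, rfl⟩
    have hnorm : Wg ≤ Subgroup.normalizer (Wg' : Set G) := by
      intro v hv
      rw [hWg', Cfsg.Agent.Lib.Helper14.normalizer_map_conj,
        Cfsg.Agent.Lib.Helper18.mem_map_conj_iff]
      apply hPW
      apply hQP
      have := hQn.conj_mem v (hWQ hv) g⁻¹
      rwa [inv_inv] at this
    have hW'ab : ⁅Wg', Wg'⁆ = ⊥ := by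
      rw [Subgroup.commutator_eq_bot_iff_le_centralizer,
        Subgroup.le_centralizer_iff_isMulCommutative, hWg']
      exact (ea_map hWea _).1
    have h1 : ⁅⁅Wg, Subgroup.zpowers (g * w * g⁻¹)⁆, Subgroup.zpowers (g * w * g⁻¹)⁆ = ⊥ := by
      rw [eq_bot_iff, ← hW'ab]
      have hz : Subgroup.zpowers (g * w * g⁻¹) ≤ Wg' := Subgroup.zpowers_le.mpr hyW'
      calc ⁅⁅Wg, Subgroup.zpowers (g * w * g⁻¹)⁆, Subgroup.zpowers (g * w * g⁻¹)⁆
          ≤ ⁅⁅Wg, Wg'⁆, Wg'⁆ :=
            Subgroup.commutator_mono (Subgroup.commutator_mono le_rfl hz) hz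
        _ ≤ ⁅Wg', Wg'⁆ := Subgroup.commutator_mono (by
            rw [Subgroup.commutator_comm]
            exact Cfsg.Agent.Lib.Helper1.commutator_le_of_le_normalizer hnorm) le_rfl
    have h2 := hNQ _ (hQP hyQ) h1
    rw [Subgroup.commutator_comm, Subgroup.commutator_eq_bot_iff_le_centralizer] at h2
    have h3 := h2 (Subgroup.mem_zpowers _)
    exact ((Subgroup.mem_centralizer_iff.mp h3) w' hw').symm
  have key2 : ∀ y₁ ∈ Group.conjugatesOfSet (Wg : Set G),
      ∀ y₂ ∈ Group.conjugatesOfSet (Wg : Set G), y₁ * y₂ = y₂ * y₁ := by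
    intro y₁ hy₁ y₂ hy₂
    obtain ⟨x₁, hx₁, hc₁⟩ := Group.mem_conjugatesOfSet_iff.mp hy₁
    obtain ⟨x₂, hx₂, hc₂⟩ := Group.mem_conjugatesOfSet_iff.mp hy₂
    obtain ⟨c₁, rfl⟩ := isConj_iff.mp hc₁
    obtain ⟨c₂, rfl⟩ := isConj_iff.mp hc₂
    have h := key1 (c₂⁻¹ * c₁) x₁ hx₁ x₂ hx₂
    have e1 : c₁ * x₁ * c₁⁻¹ * (c₂ * x₂ * c₂⁻¹) =
        c₂ * ((c₂⁻¹ * c₁) * x₁ * (c₂⁻¹ * c₁)⁻¹ * x₂) * c₂⁻¹ := by group
    have e2 : c₂ * x₂ * c₂⁻¹ * (c₁ * x₁ * c₁⁻¹) =
        c₂ * (x₂ * ((c₂⁻¹ * c₁) * x₁ * (c₂⁻¹ * c₁)⁻¹)) * c₂⁻¹ := by group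
    rw [e1, e2, h]
  have hcomm : IsMulCommutative (Subgroup.normalClosure (Wg : Set G)) :=
    Subgroup.isMulCommutative_closure key2
  refine ⟨hcomm, ?_⟩
  intro y hy
  have hy' : y ∈ Subgroup.closure (Group.conjugatesOfSet (Wg : Set G)) := hy
  clear hy
  induction hy' using Subgroup.closure_induction with
  | mem x hx =>
    obtain ⟨x₁, hx₁, hc₁⟩ := Group.mem_conjugatesOfSet_iff.mp hx
    obtain ⟨c₁, rfl⟩ := isConj_iff.mp hc₁
    rw [conj_pow, hWea.2 x₁ hx₁, mul_one, mul_inv_cancel]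
  | one => exact one_pow p
  | mul x y hx hy ihx ihy =>
    have hx' : x ∈ Subgroup.normalClosure (Wg : Set G) := hx
    have hy'' : y ∈ Subgroup.normalClosure (Wg : Set G) := hy
    have hc : Commute x y := setLike_mul_comm hx' hy''
    rw [hc.mul_pow, ihx, ihy, one_mul]
  | inv x hx ihx => rw [inv_pow, ihx, inv_one]

/-- The analogue of the ZJ-theorem for the stable normal closure. -/
theorem stableNormalClosure_normal [Finite G] {p : ℕ} [Fact p.Prime]
    (hst : IsActionPStable p G)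
    (hc : Subgroup.centralizer (pCore p G : Set G) ≤ pCore p G) (S : Sylow p G) :
    ((stableNormalClosure p ↥(S : Subgroup G)).map (S : Subgroup G).subtype).Normal := by
  classical
  have hJG := thompsonSubgroupOf_sylow_eq_JG S
  have hSN : (S : Subgroup G) ≤
      Subgroup.normalizer (thompsonSubgroupOf p (S : Subgroup G) : Set G) := by
    intro s hs
    rw [hJG]
    exact mem_normalizer_JG p (Subgroup.le_normalizer hs)
  have hemb := isStableEmbedding_inclusion hst hc S hSN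
  have hWτ := stableNormalClosure_map_normal _ hemb
  obtain ⟨Wg, hWg⟩ : ∃ Wg, Wg =
      (stableNormalClosure p ↥(S : Subgroup G)).map (S : Subgroup G).subtype := ⟨_, rfl⟩
  rw [← hWg]
  have hNW : Subgroup.normalizer (thompsonSubgroupOf p (S : Subgroup G) : Set G) ≤
      Subgroup.normalizer (Wg : Set G) := by
    intro n hn
    refine mem_normalizer_of_conj_mem_sub _ Wg (fun n hn w hw => ?_) hn
    rw [hWg] at hw ⊢
    obtain ⟨w₀, hw₀, rfl⟩ := hw
    obtain ⟨w₁, hw₁, hw₁eq⟩ := hWτ.conj_mem (Subgroup.inclusion hSN w₀) ⟨w₀, hw₀, rfl⟩ ⟨n, hn⟩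
    refine ⟨w₁, hw₁, ?_⟩
    exact congrArg Subtype.val hw₁eq
  have hPW : (S : Subgroup G) ≤ Subgroup.normalizer (Wg : Set G) := hSN.trans hNW
  have hWea : IsElementaryAbelian p Wg := by
    rw [hWg]
    apply ea_map
    obtain ⟨A₀, hA₀⟩ := famX_nonempty p (⊤ : Subgroup ↥(S : Subgroup G))
    have h1 : stableNormalClosure p ↥(S : Subgroup G) ≤ A₀ := by
      refine (stableNormalClosure_le_omegaCenterThompson p).trans ?_
      rw [omegaCenterThompson_eq_sInf]
      exact sInf_le hA₀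
    exact ea_mono ⟨hA₀.2.1, hA₀.2.2.1⟩ h1
  have hNQ : ∀ s ∈ S, ⁅⁅Wg, Subgroup.zpowers s⁆, Subgroup.zpowers s⁆ = ⊥ →
      ⁅Wg, Subgroup.zpowers s⁆ = ⊥ := by
    intro s hs hq
    have e1 : Subgroup.zpowers s =
        (Subgroup.zpowers (⟨s, hs⟩ : ↥(S : Subgroup G))).map (S : Subgroup G).subtype := by
      rw [MonoidHom.map_zpowers]
      rfl
    rw [e1, hWg, ← Subgroup.map_commutator] at hq ⊢
    rw [← Subgroup.map_commutator,
      Subgroup.map_eq_bot_iff_of_injective _ (S : Subgroup G).subtype_injective] at hq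
    rw [stableNormalClosure_noQuad _ hq, Subgroup.map_bot]
  have hWQ : Wg ≤ pCore p G := by
    intro a ha
    apply mem_pCore_of_quad_section hc hst.2.1 a
    rw [eq_bot_iff]
    have h1 : ⁅pCore p G, Wg⁆ ≤ Wg := by
      rw [Subgroup.commutator_comm]
      exact Cfsg.Agent.Lib.Helper1.commutator_le_of_le_normalizer
        ((Cfsg.Agent.Lib.Helper18.pCore_le_sylow S).trans hPW)
    have hz : Subgroup.zpowers a ≤ Wg := Subgroup.zpowers_le.mpr ha
    calc ⁅⁅pCore p G, Subgroup.zpowers a⁆, Subgroup.zpowers a⁆ ≤ ⁅⁅pCore p G, Wg⁆, Wg⁆ :=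
          Subgroup.commutator_mono (Subgroup.commutator_mono le_rfl hz) hz
      _ ≤ ⁅Wg, Wg⁆ := Subgroup.commutator_mono h1 le_rfl
      _ = ⊥ := by
        rw [Subgroup.commutator_eq_bot_iff_le_centralizer]
        exact Subgroup.le_centralizer_iff_isMulCommutative.mpr hWea.1
  obtain ⟨U, hUdef⟩ : ∃ U, U = Subgroup.normalClosure (Wg : Set G) := ⟨_, rfl⟩
  have hUn : U.Normal := hUdef ▸ Subgroup.normalClosure_normal
  have hUea : IsElementaryAbelian p U := hUdef ▸ normalClosure_ea_of_noQuad S Wg hWea hWQ hPW hNQ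
  have hUst : IsPStableOn p U := hst.1 U hUea
  have hUquad := quad_centralizes_normalClosure S Wg U hUdef hUst hNQ
  have hWU : Wg ≤ U := hUdef ▸ Subgroup.subset_normalClosure
  have hUQ : U ≤ pCore p G := hUdef ▸ Subgroup.normalClosure_le_normal hWQ
  have hUS : U ≤ (S : Subgroup G) := hUQ.trans (Cfsg.Agent.Lib.Helper18.pCore_le_sylow S)
  -- the Thompson subgroup centralizes `U`
  have hJ0 : thompsonSubgroup p ↥(S : Subgroup G) ≤
      Subgroup.centralizer ((U.subgroupOf (S : Subgroup G) : Subgroup ↥(S : Subgroup G)) :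
        Set ↥(S : Subgroup G)) := by
    apply sSup_le
    apply maxEA_le_centralizer_of_quad S.isPGroup' (U.subgroupOf (S : Subgroup G))
      (ea_subgroupOf hUea _)
    intro s hs
    have e1 : (U.subgroupOf (S : Subgroup G)).map (S : Subgroup G).subtype = U :=
      Subgroup.map_subgroupOf_eq_of_le hUS
    have h1 := congrArg (Subgroup.map (S : Subgroup G).subtype) hs
    rw [Subgroup.map_commutator, Subgroup.map_commutator, MonoidHom.map_zpowers, e1,
      Subgroup.map_bot] at h1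
    have h2 := hUquad _ h1
    rw [← Subgroup.map_eq_bot_iff_of_injective _ (S : Subgroup G).subtype_injective,
      Subgroup.map_commutator, MonoidHom.map_zpowers, e1]
    exact h2
  have hJC : thompsonSubgroupOf p (S : Subgroup G) ≤ Subgroup.centralizer (U : Set G) := by
    rintro _ ⟨j, hj, rfl⟩
    rw [Subgroup.mem_centralizer_iff]
    intro u hu
    have h1 := (Subgroup.mem_centralizer_iff.mp (hJ0 hj)) ⟨u, hUS hu⟩
      (Subgroup.mem_subgroupOf.mpr hu)
    exact congrArg Subtype.val h1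
  -- Frattini argument
  have hfr := frattini_inf_normal S (Subgroup.centralizer (U : Set G))
  have hJG' : JG p ((S : Subgroup G) ⊓ Subgroup.centralizer (U : Set G)) = JG p (S : Subgroup G) := by
    apply le_antisymm (JG_mono p inf_le_left)
    apply sSup_le
    rintro A ⟨hA, hAS⟩
    have h1 : A ≤ JG p (S : Subgroup G) := le_JG hA hAS
    rw [← hJG] at h1
    exact le_JG hA (le_inf hAS (h1.trans hJC))
  have hnn : Subgroup.normalizer
      ((((S : Subgroup G) ⊓ Subgroup.centralizer (U : Set G) : Subgroup G)) : Set G) ≤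
      Subgroup.normalizer (Wg : Set G) := by
    intro n hn
    apply hNW
    have h1 := mem_normalizer_JG p hn
    rw [hJG', ← hJG] at h1
    exact h1
  constructor
  intro w hw g
  have hg : g ∈ ((Subgroup.centralizer (U : Set G) ⊔ Subgroup.normalizer
      ((((S : Subgroup G) ⊓ Subgroup.centralizer (U : Set G) : Subgroup G)) : Set G) :
      Subgroup G) : Set G) := by
    rw [hfr]
    trivial
  rw [Subgroup.normal_mul] at hg
  obtain ⟨c, hc', n, hn, rfl⟩ := Set.mem_mul.mp hg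
  have hn' := hnn hn
  have h1 : n * w * n⁻¹ ∈ Wg := (Subgroup.mem_normalizer_iff.mp hn' w).mp hw
  have h2 := (Subgroup.mem_centralizer_iff.mp hc') (n * w * n⁻¹) (hWU h1)
  have h3 : c * n * w * (c * n)⁻¹ = c * (n * w * n⁻¹) * c⁻¹ := by group
  rw [h3, ← h2, mul_assoc, mul_inv_cancel, mul_one]
  exact h1

end WSNormal2

end Cfsg.Agent.Lib.Helper6
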