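import Mathlib
import Cfsg.Agent.Lib.Helper6.WS2
import Cfsg.Agent.S0667

set_option autoImplicit false

namespace Cfsg.Agent.Lib.Helper6

open Cfsg
open scoped commutatorElement

universe u

section Transport

variable {S₁ S₂ : Type u} [Group S₁] [Group S₂]

theorem omegaOne_map_equiv (p : ℕ) (e : S₁ ≃* S₂) (X : Subgroup S₁) :
    (omegaOne p X).map e.toMonoidHom = omegaOne p (X.map e.toMonoidHom) := by
  unfold omegaOne
  rw [MonoidHom.map_closure]
  congr 1
  ext y
  constructor
  · rintro ⟨x, ⟨hx, hxp⟩, rfl⟩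
    refine ⟨⟨x, hx, rfl⟩, ?_⟩
    show (e x) ^ p = 1
    rw [← map_pow, hxp, map_one]
  · rintro ⟨⟨x, hx, rfl⟩, hyp⟩
    refine ⟨x, ⟨hx, ?_⟩, rfl⟩
    apply e.injective
    rw [map_pow, map_one]
    exact hyp

theorem center_map_equiv (e : S₁ ≃* S₂) :
    (Subgroup.center S₁).map e.toMonoidHom = Subgroup.center S₂ := by
  ext y
  constructor
  · rintro ⟨x, hx, rfl⟩
    have hx := Subgroup.mem_center_iff.mp hx
    rw [Subgroup.mem_center_iff]
    intro g
    obtain ⟨g', rfl⟩ := e.surjective g
    show e g' * e x = e x * e g'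
    rw [← map_mul, ← map_mul, hx g']
  · intro hy
    refine ⟨e.symm y, ?_, by simp⟩
    show e.symm y ∈ Subgroup.center S₁
    rw [Subgroup.mem_center_iff] at hy ⊢
    intro g
    apply e.injective
    rw [map_mul, map_mul, e.apply_symm_apply]
    exact hy (e g)

theorem centralizer_map_equiv (e : S₁ ≃* S₂) (J : Subgroup S₁) :
    (Subgroup.centralizer (J : Set S₁)).map e.toMonoidHom =
      Subgroup.centralizer ((J.map e.toMonoidHom : Subgroup S₂) : Set S₂) := by
  ext y
  constructor
  · rintro ⟨x, hx, rfl⟩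
    have hx := Subgroup.mem_centralizer_iff.mp hx
    rw [Subgroup.mem_centralizer_iff]
    rintro _ ⟨j, hj, rfl⟩
    show e j * e x = e x * e j
    rw [← map_mul, ← map_mul, hx j hj]
  · intro hy
    refine ⟨e.symm y, ?_, by simp⟩
    show e.symm y ∈ Subgroup.centralizer (J : Set S₁)
    rw [Subgroup.mem_centralizer_iff] at hy ⊢
    intro j hj
    apply e.injective
    rw [map_mul, map_mul, e.apply_symm_apply]
    exact hy (e j) ⟨j, hj, rfl⟩

theorem omegaCenterThompson_map_equiv (p : ℕ) (e : S₁ ≃* S₂) :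
    (omegaCenterThompson p S₁).map e.toMonoidHom = omegaCenterThompson p S₂ := by
  unfold omegaCenterThompson
  rw [omegaOne_map_equiv, Subgroup.map_inf _ _ _ e.injective, centralizer_map_equiv,
    thompsonSubgroup_map_equiv]

theorem isStableEmbedding_comp_equiv {H : Type u} [Group H] (p : ℕ) (e : S₁ ≃* S₂)
    (τ : S₂ →* H) (hτ : IsStableEmbedding p τ) : IsStableEmbedding p (τ.comp e.toMonoidHom) := by
  obtain ⟨hinj, hfin, ⟨P, hP⟩, hcc, hJ, hV⟩ := hτ
  refine ⟨hinj.comp e.injective, hfin, ⟨P, ?_⟩, hcc, ?_, ?_⟩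
  · rw [hP]
    ext y
    constructor
    · rintro ⟨x, rfl⟩
      exact ⟨e.symm x, by simp⟩
    · rintro ⟨x, rfl⟩
      exact ⟨e x, rfl⟩
  · rw [← Subgroup.map_map, thompsonSubgroup_map_equiv]
    exact hJ
  · intro V _ hVle
    apply hV V
    rw [← Subgroup.map_map, omegaCenterThompson_map_equiv] at hVle
    exact hVle

theorem stableNormalClosure_le_map_equiv [Finite S₁] (p : ℕ) (e : S₁ ≃* S₂) :
    stableNormalClosure p S₂ ≤ (stableNormalClosure p S₁).map e.toMonoidHom := by
  apply sInf_le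
  refine ⟨?_, ?_⟩
  · rw [← center_map_equiv e, ← omegaOne_map_equiv]
    exact Subgroup.map_mono (omegaOne_center_le_ws p)
  · intro H _ τ hτ
    rw [Subgroup.map_map]
    exact stableNormalClosure_map_normal _ (isStableEmbedding_comp_equiv p e τ hτ)

theorem stableNormalClosure_map_equiv [Finite S₁] (p : ℕ) (e : S₁ ≃* S₂) :
    (stableNormalClosure p S₁).map e.toMonoidHom = stableNormalClosure p S₂ := by
  have : Finite S₂ := Finite.of_equiv S₁ e.toEquiv
  apply le_antisymm
  · have h := stableNormalClosure_le_map_equiv p e.symm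
    have h2 := Subgroup.map_mono (f := e.toMonoidHom) h
    rw [Subgroup.map_map] at h2
    have h3 : e.toMonoidHom.comp e.symm.toMonoidHom = MonoidHom.id S₂ := by
      ext x; simp
    rw [h3, Subgroup.map_id] at h2
    exact h2
  · exact stableNormalClosure_le_map_equiv p e

end Transport

section WofSec

variable {G : Type u} [Group G]

/-- The stable normal closure of a subgroup, viewed in the ambient group. -/
def Wof (p : ℕ) (S : Subgroup G) : Subgroup G :=
  (stableNormalClosure p ↥S).map S.subtype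

theorem Wof_le (p : ℕ) (S : Subgroup G) : Wof p S ≤ S := Subgroup.map_subtype_le _

theorem Wof_map_of_injOn {G' : Type u} [Group G'] [Finite G] (p : ℕ) (f : G →* G')
    (S : Subgroup G) (hinj : Set.InjOn f (S : Set G)) :
    (Wof p S).map f = Wof p (S.map f) := by
  have hbij : Function.Bijective (f.subgroupMap S) := by
    refine ⟨?_, f.subgroupMap_surjective S⟩
    intro x y hxy
    apply Subtype.ext
    apply hinj x.2 y.2
    exact congrArg Subtype.val hxy
  obtain ⟨e, he⟩ : ∃ e : ↥S ≃* ↥(S.map f), ∀ x, e x = f.subgroupMap S x :=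
    ⟨MulEquiv.ofBijective (f.subgroupMap S) hbij, fun _ => rfl⟩
  unfold Wof
  rw [← stableNormalClosure_map_equiv p e, Subgroup.map_map, Subgroup.map_map]
  congr 1
  ext x
  simp only [MonoidHom.coe_comp, Function.comp_apply, Subgroup.coe_subtype,
    MulEquiv.coe_toMonoidHom]
  rw [he]
  rfl

theorem normalizer_le_normalizer_Wof [Finite G] (p : ℕ) (S : Subgroup G) :
    Subgroup.normalizer (S : Set G) ≤ Subgroup.normalizer (Wof p S : Set G) := by
  intro g hg
  apply Cfsg.Agent.Lib.Helper18.mem_normalizer_of_map_conj_eq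
  rw [Wof_map_of_injOn p _ S ((MulAut.conj g).injective.injOn),
    Cfsg.Agent.Lib.Helper18.map_conj_eq_of_mem_normalizer S hg]

theorem Wof_ne_bot [Finite G] {p : ℕ} [Fact p.Prime] (S : Subgroup G) (hS : IsPGroup p S)
    (hS1 : S ≠ ⊥) : Wof p S ≠ ⊥ := by
  have hp : p.Prime := Fact.out
  have hnt : Nontrivial ↥S := (Subgroup.nontrivial_iff_ne_bot S).mpr hS1
  have hc := hS.center_nontrivial
  have hcp : IsPGroup p (Subgroup.center ↥S) := hS.to_subgroup _
  obtain ⟨n, hn⟩ := IsPGroup.iff_card.mp hcp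
  have hn0 : n ≠ 0 := by
    intro h0
    rw [h0, pow_zero] at hn
    have := Finite.one_lt_card_iff_nontrivial.mpr hc
    omega
  have hdvd : p ∣ Nat.card (Subgroup.center ↥S) := by
    rw [hn]
    exact dvd_pow_self p hn0
  obtain ⟨z, hz⟩ := exists_prime_orderOf_dvd_card' p hdvd
  have hz1 : (z : ↥S) ∈ omegaOne p (Subgroup.center ↥S) := by
    apply Subgroup.subset_closure
    refine ⟨z.2, ?_⟩
    have h1 : z ^ p = 1 := by rw [← hz]; exact pow_orderOf_eq_one z
    have h2 := congrArg Subtype.val h1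
    simpa using h2
  have hz2 : (z : ↥S) ∈ stableNormalClosure p ↥S := omegaOne_center_le_ws p hz1
  intro hbot
  have hz3 : ((z : ↥S) : G) ∈ Wof p S := ⟨(z : ↥S), hz2, rfl⟩
  rw [hbot, Subgroup.mem_bot] at hz3
  have hz4 : z = 1 := by
    apply Subtype.ext
    apply Subtype.ext
    exact hz3
  rw [hz4, orderOf_one] at hz
  exact hp.one_lt.ne hz

end WofSec

end Cfsg.Agent.Lib.Helper6
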