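import Mathlib
import Cfsg.Agent.Lib.Helper6.WS3
import Cfsg.Agent.Lib.Helper6.PStabQ

set_option autoImplicit false

namespace Cfsg.Agent.Lib.Helper6

open Cfsg
open scoped commutatorElement

universe u

section PStabAll

variable {G : Type u} [Group G]

/-- `p`-stability on a normal subgroup of `H` for arbitrary (not only `p`-) elements. -/
theorem pstable_of_abelian_section' [Finite G] {p : ℕ} [Fact p.Prime] (hp2 : p ≠ 2)
    (H K : Subgroup G) [hHn : H.Normal] [hKn : K.Normal] (hHp : IsPGroup p H)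
    (hKab : ∀ a ∈ K, ∀ b ∈ K, a * b * a⁻¹ * b⁻¹ ∈ H)
    (m : ℕ) (hm : m.Coprime p) (hKm : ∀ k ∈ K, k ^ m ∈ H)
    (hKidx : ∃ k : ℕ, K.index = p ^ k)
    (B : Subgroup G) [hBn : B.Normal] (hBH : B ≤ H) (x : G)
    (hq : ⁅⁅B, Subgroup.zpowers x⁆, Subgroup.zpowers x⁆ = ⊥) :
    (QuotientGroup.mk x : G ⧸ Subgroup.centralizer (B : Set G)) ∈
      pCore p (G ⧸ Subgroup.centralizer (B : Set G)) := by
  have hp : p.Prime := Fact.out
  -- a `p`-power of `x` centralizes `B`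
  have hB₁B : ⁅B, Subgroup.zpowers x⁆ ≤ B := Subgroup.commutator_le_left _ _
  have he1 : x ∈ Subgroup.centralizer ((⁅B, Subgroup.zpowers x⁆ : Subgroup G) : Set G) := by
    have h1 := hq
    rw [Subgroup.commutator_comm, Subgroup.commutator_eq_bot_iff_le_centralizer] at h1
    exact h1 (Subgroup.mem_zpowers x)
  have he2 : ∀ b ∈ B, x * b * x⁻¹ * b⁻¹ ∈ ⁅B, Subgroup.zpowers x⁆ := by
    intro b hb
    rw [Subgroup.commutator_comm]
    exact Subgroup.commutator_mem_commutator (Subgroup.mem_zpowers x) hb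
  have h1 := pow_card_mem_centralizer_of_stab B _ x he1 he2
  obtain ⟨j, hj⟩ := IsPGroup.iff_card.mp (hHp.to_le (hB₁B.trans hBH))
  rw [hj] at h1
  -- decompose the order of `x`
  obtain ⟨e, m', hm', hn⟩ := Nat.exists_eq_pow_mul_and_not_dvd (orderOf_pos x).ne' p hp.ne_one
  have hco : (p ^ j).Coprime m' :=
    Nat.Coprime.pow_left j ((Nat.Prime.coprime_iff_not_dvd hp).mpr hm')
  obtain ⟨u, hu1, hu0⟩ := Nat.chineseRemainder hco 1 0
  have hm'u : m' ∣ u := (Nat.modEq_zero_iff_dvd).mp hu0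
  -- `x ^ u` is a `p`-element
  have hxu : (x ^ u) ^ p ^ e = 1 := by
    rw [← pow_mul]
    apply orderOf_dvd_iff_pow_eq_one.mp
    rw [hn, mul_comm u]
    exact Nat.mul_dvd_mul_left _ hm'u
  have hpx : IsPGroup p (Subgroup.zpowers (x ^ u)) := by
    obtain ⟨i, -, hi⟩ := (Nat.dvd_prime_pow hp).mp (orderOf_dvd_of_pow_eq_one hxu)
    apply IsPGroup.of_card (n := i)
    rw [Nat.card_zpowers, hi]
  have hzu : Subgroup.zpowers (x ^ u) ≤ Subgroup.zpowers x :=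
    Subgroup.zpowers_le.mpr (Subgroup.pow_mem _ (Subgroup.mem_zpowers x) u)
  have hqu : ⁅⁅B, Subgroup.zpowers (x ^ u)⁆, Subgroup.zpowers (x ^ u)⁆ = ⊥ := by
    rw [eq_bot_iff, ← hq]
    exact Subgroup.commutator_mono (Subgroup.commutator_mono le_rfl hzu) hzu
  have h2 := pstable_of_abelian_section hp2 H K hHp hKab m hm hKm hKidx B hBH (x ^ u) hpx hqu
  have h3 : (QuotientGroup.mk (x ^ u) : G ⧸ Subgroup.centralizer (B : Set G))
      = QuotientGroup.mk x := by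
    rw [QuotientGroup.mk_pow]
    have h4 : (QuotientGroup.mk x : G ⧸ Subgroup.centralizer (B : Set G)) ^ p ^ j = 1 := by
      rw [← QuotientGroup.mk_pow]
      exact (QuotientGroup.eq_one_iff _).mpr h1
    have h5 := pow_eq_pow_of_modEq hu1 h4
    rw [h5, pow_one]
  rw [← h3]
  exact h2

end PStabAll


section ActionPStable

variable {G : Type u} [Group G]

theorem isPStableOnSection_of_abelian_section [Finite G] {p : ℕ} [Fact p.Prime] (hp2 : p ≠ 2)
    (H K : Subgroup G) [hHn : H.Normal] [hKn : K.Normal] (hHp : IsPGroup p H)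
    (hKab : ∀ a ∈ K, ∀ b ∈ K, a * b * a⁻¹ * b⁻¹ ∈ H)
    (m : ℕ) (hm : m.Coprime p) (hKm : ∀ k ∈ K, k ^ m ∈ H)
    (hKidx : ∃ k : ℕ, K.index = p ^ k) (Φ : Subgroup G) [hΦn : Φ.Normal] :
    IsPStableOnSection p H Φ := by
  have hp : p.Prime := Fact.out
  intro a hq
  have hπs : Function.Surjective (QuotientGroup.mk' Φ) := QuotientGroup.mk'_surjective Φ
  have hHbn : (H.map (QuotientGroup.mk' Φ)).Normal := hHn.map _ hπs
  have hKbn : (K.map (QuotientGroup.mk' Φ)).Normal := hKn.map _ hπs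
  have hquad : ⁅⁅H.map (QuotientGroup.mk' Φ), Subgroup.zpowers (QuotientGroup.mk' Φ a)⁆,
      Subgroup.zpowers (QuotientGroup.mk' Φ a)⁆ = ⊥ := by
    rw [← MonoidHom.map_zpowers, ← Subgroup.map_commutator, ← Subgroup.map_commutator,
      eq_bot_iff]
    rintro _ ⟨y, hy, rfl⟩
    rw [Subgroup.mem_bot]
    exact (QuotientGroup.eq_one_iff y).mpr (hq hy)
  have hKbab : ∀ a ∈ K.map (QuotientGroup.mk' Φ), ∀ b ∈ K.map (QuotientGroup.mk' Φ),
      a * b * a⁻¹ * b⁻¹ ∈ H.map (QuotientGroup.mk' Φ) := by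
    rintro _ ⟨a, ha, rfl⟩ _ ⟨b, hb, rfl⟩
    exact ⟨a * b * a⁻¹ * b⁻¹, hKab a ha b hb, by simp⟩
  have hKbm : ∀ k ∈ K.map (QuotientGroup.mk' Φ), k ^ m ∈ H.map (QuotientGroup.mk' Φ) := by
    rintro _ ⟨k, hk, rfl⟩
    exact ⟨k ^ m, hKm k hk, by simp⟩
  have hKbidx : ∃ k : ℕ, (K.map (QuotientGroup.mk' Φ)).index = p ^ k := by
    obtain ⟨k, hk⟩ := hKidx
    have h1 : (K.map (QuotientGroup.mk' Φ)).index ∣ K.index := Subgroup.index_map_dvd K hπs
    rw [hk] at h1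
    obtain ⟨i, -, hi⟩ := (Nat.dvd_prime_pow hp).mp h1
    exact ⟨i, hi⟩
  have h1 := pstable_of_abelian_section' hp2 (H.map (QuotientGroup.mk' Φ))
    (K.map (QuotientGroup.mk' Φ)) (hHp.map _) hKbab m hm hKbm hKbidx
    (H.map (QuotientGroup.mk' Φ)) le_rfl (QuotientGroup.mk' Φ a) hquad
  obtain ⟨f, hfdef⟩ : ∃ f : G →* (G ⧸ Φ) ⧸ Subgroup.centralizer
      ((H.map (QuotientGroup.mk' Φ) : Subgroup (G ⧸ Φ)) : Set (G ⧸ Φ)),
      f = (QuotientGroup.mk' _).comp (QuotientGroup.mk' Φ) := ⟨_, rfl⟩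
  have hfs : Function.Surjective f := hfdef ▸ (QuotientGroup.mk'_surjective _).comp hπs
  have hker : sectionKernel H Φ = f.ker := by
    ext g
    rw [MonoidHom.mem_ker, hfdef, MonoidHom.comp_apply, QuotientGroup.mk'_apply,
      QuotientGroup.eq_one_iff]
    rfl
  refine ⟨(pCore p _).comap f, (Cfsg.pCore_normal p _).comap f, ?_, ?_, ?_⟩
  · rw [hker]
    intro g hg
    rw [Subgroup.mem_comap, MonoidHom.mem_ker.mp hg]
    exact Subgroup.one_mem _
  · rw [hker, Subgroup.relIndex_ker, Subgroup.map_comap_eq_self_of_surjective hfs]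
    exact IsPGroup.iff_card.mp (Cfsg.Agent.Lib.Helper18.pCore_isPGroup p _)
  · rw [Subgroup.mem_comap, hfdef]
    exact h1

theorem isPStableOn_subgroup_of_abelian_section [Finite G] {p : ℕ} [Fact p.Prime] (hp2 : p ≠ 2)
    (H K : Subgroup G) [hHn : H.Normal] [hKn : K.Normal] (hHp : IsPGroup p H)
    (hKab : ∀ a ∈ K, ∀ b ∈ K, a * b * a⁻¹ * b⁻¹ ∈ H)
    (m : ℕ) (hm : m.Coprime p) (hKm : ∀ k ∈ K, k ^ m ∈ H)
    (hKidx : ∃ k : ℕ, K.index = p ^ k)
    (N : Subgroup G) (V : Subgroup ↥N) [hVn : V.Normal] (hVp : IsPGroup p V) :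
    IsPStableOn p V := by
  have hp : p.Prime := Fact.out
  intro a hq
  have hH'n : (H.subgroupOf N).Normal := inferInstance
  have hH'le : H.subgroupOf N ≤ pCore p ↥N :=
    Cfsg.Agent.Lib.Helper18.le_pCore hH'n hHp.comap_subtype
  have hmk : ∀ y ∈ K.subgroupOf N ⊔ pCore p ↥N, ∃ k ∈ K.subgroupOf N,
      (QuotientGroup.mk y : ↥N ⧸ pCore p ↥N) = QuotientGroup.mk k := by
    intro y hy
    have hy' : y ∈ (((K.subgroupOf N) ⊔ pCore p ↥N : Subgroup ↥N) : Set ↥N) := hy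
    rw [Subgroup.mul_normal] at hy'
    obtain ⟨k, hk, h, hh, rfl⟩ := Set.mem_mul.mp hy'
    refine ⟨k, hk, ?_⟩
    rw [QuotientGroup.mk_mul, (QuotientGroup.eq_one_iff h).mpr hh, mul_one]
  have hKab'' : ∀ a ∈ K.subgroupOf N ⊔ pCore p ↥N, ∀ b ∈ K.subgroupOf N ⊔ pCore p ↥N,
      a * b * a⁻¹ * b⁻¹ ∈ pCore p ↥N := by
    intro a ha b hb
    obtain ⟨k₁, hk₁, e₁⟩ := hmk a ha
    obtain ⟨k₂, hk₂, e₂⟩ := hmk b hb
    rw [← QuotientGroup.eq_one_iff]
    simp only [QuotientGroup.mk_mul, QuotientGroup.mk_inv, e₁, e₂]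
    rw [← QuotientGroup.mk_inv, ← QuotientGroup.mk_inv, ← QuotientGroup.mk_mul,
      ← QuotientGroup.mk_mul, ← QuotientGroup.mk_mul, QuotientGroup.eq_one_iff]
    apply hH'le
    rw [Subgroup.mem_subgroupOf]
    exact hKab _ (Subgroup.mem_subgroupOf.mp hk₁) _ (Subgroup.mem_subgroupOf.mp hk₂)
  have hKm'' : ∀ k ∈ K.subgroupOf N ⊔ pCore p ↥N, k ^ m ∈ pCore p ↥N := by
    intro y hy
    obtain ⟨k₁, hk₁, e₁⟩ := hmk y hy
    rw [← QuotientGroup.eq_one_iff, QuotientGroup.mk_pow, e₁, ← QuotientGroup.mk_pow,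
      QuotientGroup.eq_one_iff]
    apply hH'le
    rw [Subgroup.mem_subgroupOf]
    exact hKm _ (Subgroup.mem_subgroupOf.mp hk₁)
  have hKidx'' : ∃ k : ℕ, (K.subgroupOf N ⊔ pCore p ↥N).index = p ^ k := by
    obtain ⟨k, hk⟩ := hKidx
    have h1 : (K.subgroupOf N ⊔ pCore p ↥N).index ∣ (K.subgroupOf N).index :=
      Subgroup.index_dvd_of_le le_sup_left
    have h2 : (K.subgroupOf N).index ∣ K.index := Subgroup.relIndex_dvd_index_of_normal K N
    rw [hk] at h2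
    obtain ⟨i, -, hi⟩ := (Nat.dvd_prime_pow hp).mp (h1.trans h2)
    exact ⟨i, hi⟩
  exact pstable_of_abelian_section' hp2 (pCore p ↥N) (K.subgroupOf N ⊔ pCore p ↥N)
    (Cfsg.Agent.Lib.Helper18.pCore_isPGroup p ↥N) hKab'' m hm hKm'' hKidx'' V
    (Cfsg.Agent.Lib.Helper18.le_pCore hVn hVp) a hq

theorem isActionPStable_of_abelian_section [Finite G] {p : ℕ} [Fact p.Prime] (hp2 : p ≠ 2)
    (K : Subgroup G) [hKn : K.Normal]
    (hKab : ∀ a ∈ K, ∀ b ∈ K, a * b * a⁻¹ * b⁻¹ ∈ pCore p G)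
    (m : ℕ) (hm : m.Coprime p) (hKm : ∀ k ∈ K, k ^ m ∈ pCore p G)
    (hKidx : ∃ k : ℕ, K.index = p ^ k) : IsActionPStable p G := by
  have hHp := Cfsg.Agent.Lib.Helper18.pCore_isPGroup p G
  refine ⟨?_, ?_, ?_⟩
  · intro V _ hV a hq
    exact pstable_of_abelian_section' hp2 (pCore p G) K hHp hKab m hm hKm hKidx V
      (Cfsg.Agent.Lib.Helper18.le_pCore inferInstance (ea_isPGroup hV)) a hq
  · exact isPStableOnSection_of_abelian_section hp2 (pCore p G) K hHp hKab m hm hKm hKidx _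
  · intro S V _ hVle
    apply isPStableOn_subgroup_of_abelian_section hp2 (pCore p G) K hHp hKab m hm hKm hKidx _ V
    have h1 : IsPGroup p (V.map (Subgroup.subtype _)) :=
      S.isPGroup'.to_le (hVle.trans (Subgroup.map_subtype_le _))
    have h2 := h1.comap_of_injective
      (Subgroup.normalizer (thompsonSubgroupOf p (S : Subgroup G) : Set G)).subtype
      (Subgroup.subtype_injective _)
    rwa [Subgroup.comap_map_eq_self_of_injective (Subgroup.subtype_injective _)] at h2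

end ActionPStable

end Cfsg.Agent.Lib.Helper6
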