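import Mathlib
import Cfsg.Agent.Lib.Helper2.ZJeFunctor
import Cfsg.Agent.S3071

set_option autoImplicit false
set_option linter.style.haveILetI false

/-!
Glauberman's ZJ-theorem for the elementary abelian version of the Thompson subgroup, with the
full centre: in a finite group `X` not involving `SL(2,p)` (`p` odd) with
`C_X(O_p(X)) ≤ O_p(X)`, the centre of `J_e(T)` is normal for a Sylow `p`-subgroup `T`.
-/

namespace Cfsg.Agent.Lib.Helper6

open Cfsg Cfsg.Agent.Lib.Helper2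
open scoped commutatorElement

universe u

variable {X : Type u} [Group X]

theorem mk_mem_pCore_of_normal [Finite X] {p : ℕ} [Fact p.Prime] (C : Subgroup X) [C.Normal]
    (D : Subgroup X) (hDn : D.Normal) (hD : ∀ d ∈ D, ∃ k : ℕ, d ^ p ^ k ∈ C) {a : X}
    (ha : a ∈ D) : (QuotientGroup.mk a : X ⧸ C) ∈ Cfsg.pCore p (X ⧸ C) := by
  have hEn : (D.map (QuotientGroup.mk' C)).Normal :=
    Subgroup.Normal.map hDn _ (QuotientGroup.mk'_surjective _)
  have hEp : IsPGroup p (D.map (QuotientGroup.mk' C)) := by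
    rintro ⟨_, d, hdD, rfl⟩
    obtain ⟨k, hk⟩ := hD d hdD
    refine ⟨k, ?_⟩
    apply Subtype.ext
    rw [Subgroup.coe_pow, Subgroup.coe_one, ← map_pow, ← MonoidHom.mem_ker,
      QuotientGroup.ker_mk']
    exact hk
  exact Cfsg.Agent.Lib.Helper1.le_pCore p hEn hEp ⟨a, ha, rfl⟩

theorem exists_pow_mem_of_mk_mem_pCore [Finite X] {p : ℕ} [Fact p.Prime] (C : Subgroup X)
    [C.Normal] {a : X} (ha : (QuotientGroup.mk a : X ⧸ C) ∈ Cfsg.pCore p (X ⧸ C)) :
    ∃ k : ℕ, a ^ p ^ k ∈ C := by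
  obtain ⟨k, hk⟩ := (Cfsg.Agent.Lib.Helper1.pCore_isPGroup (G := X ⧸ C) p) ⟨_, ha⟩
  refine ⟨k, ?_⟩
  have h1 := congrArg Subtype.val hk
  rw [Subgroup.coe_pow, Subgroup.coe_one, ← QuotientGroup.mk_pow] at h1
  exact (QuotientGroup.eq_one_iff _).mp h1

theorem quad_mem_pCore [Finite X] {p : ℕ} [Fact p.Prime] (hp2 : p ≠ 2)
    (hno : ¬ Cfsg.Involves (Matrix.SpecialLinearGroup (Fin 2) (ZMod p)) X)
    (V : Subgroup X) [hVn : V.Normal] (hV : IsPGroup p V) (a : X)
    (hq : ∀ v ∈ V, a * (a * v * a⁻¹ * v⁻¹) = (a * v * a⁻¹ * v⁻¹) * a) :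
    (QuotientGroup.mk a : X ⧸ Subgroup.centralizer (V : Set X)) ∈
      Cfsg.pCore p (X ⧸ Subgroup.centralizer (V : Set X)) := by
  obtain ⟨D, hDn, haD, hD⟩ := Cfsg.Agent.S3071.stable_core hp2 hno a _ V le_rfl hVn hV
    (fun v hv => by rw [hq v hv]; group)
  exact mk_mem_pCore_of_normal _ D hDn hD haD


set_option maxHeartbeats 3200000 in
theorem zje_inf_normal_step [Finite X] {p : ℕ} [Fact p.Prime] (hp2 : p ≠ 2)
    (hno : ¬ Cfsg.Involves (Matrix.SpecialLinearGroup (Fin 2) (ZMod p)) X)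
    (T : Sylow p X)
    (IH : ∀ Y : Subgroup X, Y ≠ ⊤ → (T : Subgroup X) ≤ Y → Cfsg.pCore p X ≤ Y →
      ∀ y ∈ Y, y ∈ Subgroup.normalizer (zjSub p (T : Subgroup X) : Set X)) :
    ∀ (n : ℕ) (B : Subgroup X), B.Normal → IsPGroup p B → Nat.card B ≤ n →
      (zjSub p (T : Subgroup X) ⊓ B).Normal := by
  have hp : p.Prime := Fact.out
  have hfratT : ∀ L : Subgroup X, L.Normal →
      L ⊔ Subgroup.normalizer (((T : Subgroup X) ⊓ L : Subgroup X) : Set X) = ⊤ := by
    intro L hLn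
    haveI := hLn
    exact frattini_inf_normal T L
  have hTidx : ¬ p ∣ (T : Subgroup X).index := T.not_dvd_index
  have hHT0 : Cfsg.pCore p X ≤ (T : Subgroup X) := Cfsg.Agent.Lib.Helper1.pCore_le_sylow T
  have hTp0 : IsPGroup p (T : Subgroup X) := T.isPGroup'
  obtain ⟨TS, hTS⟩ : ∃ TS : Subgroup X, TS = (T : Subgroup X) := ⟨_, rfl⟩
  rw [← hTS] at IH hfratT hTidx hHT0 hTp0 ⊢
  have hTp : IsPGroup p TS := hTp0
  obtain ⟨H, hH⟩ : ∃ H : Subgroup X, H = Cfsg.pCore p X := ⟨_, rfl⟩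
  have hHn : H.Normal := hH ▸ Cfsg.Agent.Lib.Helper1.pCore_normal p
  have hHp : IsPGroup p H := hH ▸ Cfsg.Agent.Lib.Helper1.pCore_isPGroup p
  have hHT : H ≤ TS := hH ▸ hHT0
  rw [← hH] at IH
  intro n
  induction n with
  | zero =>
    intro B _ _ hcard
    have := Nat.card_pos (α := B)
    omega
  | succ n ih =>
    intro B hBn hB hcard
    by_contra hnot
    obtain ⟨Z, hZ⟩ : ∃ Z, Z = zjSub p TS := ⟨_, rfl⟩
    rw [← hZ] at ih hnot IH
    have hBH : B ≤ H := hH ▸ Cfsg.Agent.Lib.Helper1.le_pCore p hBn hB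
    have hBT : B ≤ TS := hBH.trans hHT
    have hTZ : ∀ t ∈ TS, ∀ w ∈ Z, t * w * t⁻¹ ∈ Z := by
      intro t ht w hw
      rw [hZ] at hw ⊢
      exact zjSub_conj p TS t (Subgroup.le_normalizer ht) w hw
    have hZcomm : ∀ a ∈ Z, ∀ b ∈ Z, a * b = b * a := by
      intro a ha b hb
      rw [hZ] at ha hb
      exact zjSub_comm p TS a b ha hb
    have hTN : TS ≤ Subgroup.normalizer ((Z ⊓ B : Subgroup X) : Set X) := by
      intro t ht
      apply mem_normalizer_of_conj_mem_sub TS _ _ ht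
      intro t ht w hw
      exact Subgroup.mem_inf.mpr ⟨hTZ t ht w (Subgroup.mem_inf.mp hw).1,
        hBn.conj_mem w (Subgroup.mem_inf.mp hw).2 t⟩
    have hB₁le : Subgroup.normalClosure ((Z ⊓ B : Subgroup X) : Set X) ≤ B :=
      Subgroup.normalClosure_le_normal inf_le_right
    have hB₁ : Subgroup.normalClosure ((Z ⊓ B : Subgroup X) : Set X) = B := by
      by_contra hne
      have hlt := lt_of_le_of_ne hB₁le hne
      have hc := card_lt_card_of_lt_sub hlt
      have h1 := ih _ Subgroup.normalClosure_normal (hB.to_le hB₁le) (by omega)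
      have e : Z ⊓ B = Z ⊓ Subgroup.normalClosure ((Z ⊓ B : Subgroup X) : Set X) :=
        le_antisymm (le_inf inf_le_left Subgroup.le_normalClosure) (inf_le_inf_left Z hB₁le)
      rw [e] at hnot
      exact hnot h1
    have hBne : B ≠ ⊥ := by
      rintro rfl
      apply hnot
      rw [inf_bot_eq]
      infer_instance
    have hcentral : ∀ N₀ : Subgroup X, N₀.Normal → N₀ ≤ Z ⊓ B →
        N₀ ≤ Subgroup.centralizer (B : Set X) := by
      intro N₀ hN₀ hle
      have hKn : (Subgroup.centralizer (N₀ : Set X)).Normal := inferInstance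
      have h1 : Subgroup.normalClosure ((Z ⊓ B : Subgroup X) : Set X) ≤
          Subgroup.centralizer (N₀ : Set X) := by
        apply Subgroup.normalClosure_le_normal
        intro z hz
        rw [SetLike.mem_coe, Subgroup.mem_centralizer_iff]
        intro y hy
        exact hZcomm y (Subgroup.mem_inf.mp (hle hy)).1 z (Subgroup.mem_inf.mp hz).1
      rw [hB₁] at h1
      intro y hy
      rw [Subgroup.mem_centralizer_iff]
      intro b hb
      exact ((Subgroup.mem_centralizer_iff.mp (h1 hb)) y hy).symm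
    -- the derived subgroup
    have hB'lt : ⁅B, B⁆ < B :=
      Cfsg.Agent.Lib.Helper1.commutator_lt_of_pgroups hB hB Subgroup.le_normalizer hBne
    have hB'n : (⁅B, B⁆).Normal := Subgroup.commutator_normal B B
    have hYn : (Z ⊓ ⁅B, B⁆).Normal := by
      have hc := card_lt_card_of_lt_sub hB'lt
      exact ih _ hB'n (hB.to_le hB'lt.le) (by omega)
    have hB'Z : ⁅B, B⁆ ≤ Z := by
      have h1 : ⁅Subgroup.normalClosure ((Z ⊓ B : Subgroup X) : Set X), B⁆ ≤ Z ⊓ ⁅B, B⁆ := by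
        apply commutator_normalClosure_le
        intro z hz x hx
        obtain ⟨hzW, hzB⟩ := Subgroup.mem_inf.mp hz
        refine Subgroup.mem_inf.mpr ⟨?_, Subgroup.commutator_mem_commutator hzB hx⟩
        have e : ⁅z, x⁆ = z * (x * z⁻¹ * x⁻¹) := by
          simp only [commutatorElement_def]; group
        rw [e]
        exact Z.mul_mem hzW (hTZ x (hBT hx) _ (Z.inv_mem hzW))
      rw [hB₁] at h1
      exact h1.trans inf_le_left
    have hB'c : ⁅B, B⁆ ≤ Subgroup.centralizer (B : Set X) :=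
      hcentral _ hB'n (le_inf hB'Z hB'lt.le)
    -- the Frattini subgroup
    obtain ⟨Φ, hΦ⟩ : ∃ Φ, Φ = (frattini ↥B).map B.subtype := ⟨_, rfl⟩
    have hΦn : Φ.Normal := by
      apply normal_of_forall_normalizer
      intro g
      rw [hΦ]
      exact Cfsg.Agent.Lib.Helper18.normalizer_le_normalizer_map_frattini B
        (mem_normalizer_of_normal B g)
    have hΦle : Φ ≤ B := hΦ ▸ Subgroup.map_subtype_le _
    have hΦlt : Φ < B := by
      refine lt_of_le_of_ne hΦle ?_
      intro heq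
      have hfr : frattini ↥B = ⊤ := by
        apply Subgroup.map_injective B.subtype_injective
        rw [← hΦ, heq, ← MonoidHom.range_eq_map, Subgroup.range_subtype]
      have hnt : Nontrivial ↥B := by
        obtain ⟨v, hv⟩ := (Subgroup.ne_bot_iff_exists_ne_one).mp hBne
        exact ⟨⟨v, 1, hv⟩⟩
      obtain ⟨M, hM⟩ : ∃ M : Subgroup ↥B, IsCoatom M := by
        rcases IsCoatomic.eq_top_or_exists_le_coatom (⊥ : Subgroup ↥B) with h | ⟨M, hM, -⟩
        · exact absurd h bot_ne_top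
        · exact ⟨M, hM⟩
      have h1 := frattini_le_coatom hM
      rw [hfr] at h1
      exact hM.1 (top_le_iff.mp h1)
    have hpowΦ : ∀ b ∈ B, b ^ p ∈ Φ := by
      intro b hb
      rw [hΦ]
      exact ⟨⟨b, hb⟩ ^ p, Cfsg.Agent.Lib.Helper28.pow_mem_frattini hB ⟨b, hb⟩, rfl⟩
    -- the normal closure of the `p`-th powers
    obtain ⟨B₀, hB₀⟩ : ∃ B₀, B₀ = Subgroup.normalClosure {y : X | ∃ z ∈ Z ⊓ B, y = z ^ p} :=
      ⟨_, rfl⟩
    have hB₀n : B₀.Normal := hB₀ ▸ Subgroup.normalClosure_normal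
    have hB₀Φ : B₀ ≤ Φ := by
      rw [hB₀]
      apply Subgroup.normalClosure_le_normal
      rintro _ ⟨z, hz, rfl⟩
      exact hpowΦ z (Subgroup.mem_inf.mp hz).2
    have hB₀lt : B₀ < B := lt_of_le_of_lt hB₀Φ hΦlt
    have hpowB₀ : ∀ z ∈ Z ⊓ B, z ^ p ∈ B₀ := by
      intro z hz
      rw [hB₀]
      exact Subgroup.subset_normalClosure ⟨z, hz, rfl⟩
    have hB₀Z : B₀ ≤ Z := by
      have hc := card_lt_card_of_lt_sub hB₀lt
      have h1 : (Z ⊓ B₀).Normal := ih B₀ hB₀n (hB.to_le hB₀lt.le) (by omega)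
      have h2 : Subgroup.normalClosure {y : X | ∃ z ∈ Z ⊓ B, y = z ^ p} ≤ Z ⊓ B₀ := by
        apply Subgroup.normalClosure_le_normal
        rintro _ ⟨z, hz, rfl⟩
        exact Subgroup.mem_inf.mpr ⟨Z.pow_mem (Subgroup.mem_inf.mp hz).1 p, hpowB₀ z hz⟩
      rw [← hB₀] at h2
      exact h2.trans inf_le_left
    have hB₀c : B₀ ≤ Subgroup.centralizer (B : Set X) :=
      hcentral B₀ hB₀n (le_inf hB₀Z hB₀lt.le)
    -- commutators have order dividing `p`
    have hexp : ∀ c' ∈ ⁅B, B⁆, c' ^ p = 1 := by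
      let E : Subgroup X :=
        { carrier := {y | y ∈ ⁅B, B⁆ ∧ y ^ p = 1}
          one_mem' := ⟨Subgroup.one_mem _, one_pow _⟩
          mul_mem' := by
            rintro a b ⟨ha, ha'⟩ ⟨hb, hb'⟩
            refine ⟨Subgroup.mul_mem _ ha hb, ?_⟩
            have hab : Commute a b :=
              ((Subgroup.mem_centralizer_iff.mp (hB'c ha)) b (hB'lt.le hb)).symm
            rw [hab.mul_pow, ha', hb', one_mul]
          inv_mem' := by
            rintro a ⟨ha, ha'⟩
            exact ⟨Subgroup.inv_mem _ ha, by rw [inv_pow, ha', inv_one]⟩ }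
      have hEn : E.Normal := by
        refine ⟨fun y hy g => ⟨hB'n.conj_mem y hy.1 g, ?_⟩⟩
        rw [conj_pow, hy.2]; simp
      have h1 : ⁅Subgroup.normalClosure ((Z ⊓ B : Subgroup X) : Set X), B⁆ ≤ E := by
        apply commutator_normalClosure_le
        intro z hz x hx
        have hzB := (Subgroup.mem_inf.mp hz).2
        have hcc : ⁅z, x⁆ ∈ ⁅B, B⁆ := Subgroup.commutator_mem_commutator hzB hx
        refine ⟨hcc, ?_⟩
        have hcz : z * ⁅z, x⁆ = ⁅z, x⁆ * z :=
          ((Subgroup.mem_centralizer_iff.mp (hB'c hcc)) z hzB)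
        have h2 := conj_pow_of_comm z x ⁅z, x⁆ (by rw [commutatorElement_def]; group) hcz p
        have h3 : z ^ p * x * (z ^ p)⁻¹ = x := by
          have := (Subgroup.mem_centralizer_iff.mp (hB₀c (hpowB₀ z hz))) x hx
          rw [← this]; group
        rw [h3] at h2
        have h4 : ⁅z, x⁆ ^ p * x = 1 * x := by rw [one_mul]; exact h2.symm
        exact mul_right_cancel h4
      rw [hB₁] at h1
      intro c' hc'
      exact (h1 hc').2
    have hB'A : ∀ A ∈ famX p TS, ⁅B, B⁆ ≤ A := by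
      intro A hA c' hc'
      apply famX_mem_of_comm p TS A hA c' (hBT (hB'lt.le hc')) (hexp c' hc')
      intro a ha
      exact zjSub_comm_mem p TS A hA c' a (hZ ▸ hB'Z hc') ha
    have hexA₀ : ∃ A₀ ∈ famX p TS, ¬ B ≤ A₀ := by
      by_contra hcon
      push Not at hcon
      apply hnot
      have hBZ : B ≤ Z := by
        rw [hZ]
        intro b hb
        obtain ⟨A₁, hA₁⟩ := famX_nonempty p TS
        refine Subgroup.mem_inf.mpr ⟨le_sSup hA₁ (hcon A₁ hA₁ hb), ?_⟩
        apply mem_centralizer_jSub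
        intro A hA a ha
        exact famX_elts_comm p TS A hA a b ha (hcon A hA hb)
      rw [inf_eq_right.mpr hBZ]
      exact hBn
    obtain ⟨A₀, hA₀F, hBA₀⟩ := hexA₀
    obtain ⟨A, hAF, hBA, hBNA⟩ :=
      famX_repl hp2 p TS B hTp hBn hBT A₀ hA₀F (hB'A A₀ hA₀F) hBA₀
    have hquadA : ∀ (V A' : Subgroup X), A' ∈ famX p TS → V ≤ Subgroup.normalizer (A' : Set X) →
        ∀ a ∈ A', ∀ v ∈ V, a * (a * v * a⁻¹ * v⁻¹) = (a * v * a⁻¹ * v⁻¹) * a := by
      intro V A' hA' hVN a ha v hv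
      have h1 : v * a⁻¹ * v⁻¹ ∈ A' :=
        (Subgroup.mem_normalizer_iff.mp (hVN hv) a⁻¹).mp (A'.inv_mem ha)
      have h2 : a * v * a⁻¹ * v⁻¹ ∈ A' := by
        have e : a * v * a⁻¹ * v⁻¹ = a * (v * a⁻¹ * v⁻¹) := by group
        rw [e]; exact A'.mul_mem ha h1
      exact famX_elts_comm p TS A' hA' _ _ ha h2
    -- the new part: the preimage of `O_p(X / C_X(B))`
    haveI hBn' : B.Normal := hBn
    obtain ⟨L, hL⟩ : ∃ L : Subgroup X,
        L = (Cfsg.pCore p (X ⧸ Subgroup.centralizer (B : Set X))).comap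
          (QuotientGroup.mk' (Subgroup.centralizer (B : Set X))) := ⟨_, rfl⟩
    have hLn : L.Normal := by
      rw [hL]
      exact Subgroup.Normal.comap (Cfsg.Agent.Lib.Helper1.pCore_normal p) _
    have hAL : A ≤ L := by
      intro a ha
      rw [hL]
      exact quad_mem_pCore hp2 hno B hB a (hquadA B A hAF hBNA a ha)
    have hHL : H ≤ L := by
      intro h hh
      rw [hL]
      apply mk_mem_pCore_of_normal _ H hHn _ hh
      intro d hd
      obtain ⟨k, hk⟩ := hHp ⟨d, hd⟩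
      refine ⟨k, ?_⟩
      have h1 := congrArg Subtype.val hk
      rw [Subgroup.coe_pow, Subgroup.coe_one] at h1
      rw [h1]
      exact Subgroup.one_mem _
    have hYne : TS ⊔ L ≠ ⊤ := by
      intro htop
      apply hnot
      have hq : IsPGroup p (X ⧸ Subgroup.centralizer (B : Set X)) := by
        have h1 : IsPGroup p
            (TS.map (QuotientGroup.mk' (Subgroup.centralizer (B : Set X)))) := hTp.map _
        have h2 : IsPGroup p (Cfsg.pCore p (X ⧸ Subgroup.centralizer (B : Set X))) :=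
          Cfsg.Agent.Lib.Helper1.pCore_isPGroup p
        haveI := Cfsg.Agent.Lib.Helper1.pCore_normal
          (G := X ⧸ Subgroup.centralizer (B : Set X)) p
        have h3 := IsPGroup.to_sup_of_normal_right h1 h2
        have h4 : TS.map (QuotientGroup.mk' (Subgroup.centralizer (B : Set X))) ⊔
            Cfsg.pCore p (X ⧸ Subgroup.centralizer (B : Set X)) = ⊤ := by
          have e1 : L.map (QuotientGroup.mk' (Subgroup.centralizer (B : Set X))) =
              Cfsg.pCore p (X ⧸ Subgroup.centralizer (B : Set X)) := by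
            rw [hL]
            exact Subgroup.map_comap_eq_self_of_surjective (QuotientGroup.mk'_surjective _) _
          rw [← e1, ← Subgroup.map_sup, htop]
          exact Subgroup.map_top_of_surjective _ (QuotientGroup.mk'_surjective _)
        rw [h4] at h3
        intro g
        obtain ⟨k, hk⟩ := h3 ⟨g, Subgroup.mem_top g⟩
        refine ⟨k, ?_⟩
        have h5 := congrArg Subtype.val hk
        rwa [Subgroup.coe_pow, Subgroup.coe_one] at h5
      obtain ⟨m, hm⟩ := IsPGroup.iff_card.mp hq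
      have hidx : (TS ⊔ Subgroup.centralizer (B : Set X)).index = 1 := by
        have h1 : (TS ⊔ Subgroup.centralizer (B : Set X)).index ∣ p ^ m := by
          rw [← hm]
          exact Subgroup.index_dvd_of_le le_sup_right
        have h2 : (TS ⊔ Subgroup.centralizer (B : Set X)).index ∣ TS.index :=
          Subgroup.index_dvd_of_le le_sup_left
        obtain ⟨j, -, hj⟩ := (Nat.dvd_prime_pow hp).mp h1
        rcases Nat.eq_zero_or_pos j with h0 | hpos
        · rw [hj, h0, pow_zero]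
        · exfalso
          have h3 : p ∣ TS.index := dvd_trans (hj ▸ dvd_pow_self p (by omega)) h2
          exact hTidx h3
      have htop2 : TS ⊔ Subgroup.centralizer (B : Set X) = ⊤ := Subgroup.index_eq_one.mp hidx
      rw [← Subgroup.normalizer_eq_top_iff, eq_top_iff, ← htop2]
      apply sup_le hTN
      exact (Subgroup.centralizer_le inf_le_right).trans (Subgroup.centralizer_le_normalizer _)
    have hYZ : ∀ y ∈ TS ⊔ L, y ∈ Subgroup.normalizer (Z : Set X) :=
      IH (TS ⊔ L) hYne le_sup_left (hHL.trans le_sup_right)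
    have hAT₁ : A ≤ TS ⊓ L := le_inf (famX_le p TS A hAF) hAL
    obtain ⟨hAF₁, hsub₁⟩ := famX_mono p TS (TS ⊓ L) A inf_le_left hAF hAT₁
    obtain ⟨𝓔, h𝓔⟩ : ∃ 𝓔 : Set (Subgroup X), 𝓔 = {E | ∃ l ∈ L, ∃ E₀ ∈ famX p (TS ⊓ L),
        E = E₀.map (MulAut.conj l).toMonoidHom} := ⟨_, rfl⟩
    have h𝓔self : ∀ E₀ ∈ famX p (TS ⊓ L), E₀ ∈ 𝓔 := by
      intro E₀ hE₀
      rw [h𝓔]
      exact ⟨1, L.one_mem, E₀, hE₀, (Cfsg.Agent.Lib.Helper18.map_conj_one E₀).symm⟩
    have hfrat : L ⊔ Subgroup.normalizer ((TS ⊓ L : Subgroup X) : Set X) = ⊤ := hfratT L hLn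
    have h𝓔conj : ∀ E ∈ 𝓔, ∀ x : X, E.map (MulAut.conj x).toMonoidHom ∈ 𝓔 := by
      intro E hE x
      rw [h𝓔] at hE ⊢
      obtain ⟨l, hl, E₀, hE₀, rfl⟩ := hE
      obtain ⟨l', hl', n', hn', hxl⟩ : ∃ l' ∈ L,
          ∃ n' ∈ Subgroup.normalizer ((TS ⊓ L : Subgroup X) : Set X), l' * n' = x * l := by
        haveI := hLn
        have hx' : x * l ∈ ((L ⊔ Subgroup.normalizer ((TS ⊓ L : Subgroup X) : Set X) :
            Subgroup X) : Set X) := by
          rw [hfrat]; exact Subgroup.mem_top _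
        rw [Subgroup.normal_mul] at hx'
        obtain ⟨l', hl', n', hn', e⟩ := Set.mem_mul.mp hx'
        exact ⟨l', hl', n', hn', e⟩
      refine ⟨l', hl', E₀.map (MulAut.conj n').toMonoidHom,
        famX_conj p (TS ⊓ L) E₀ n' hE₀ hn', ?_⟩
      rw [← Cfsg.Agent.Lib.Helper18.map_conj_mul, ← Cfsg.Agent.Lib.Helper18.map_conj_mul, hxl]
    obtain ⟨V₁, hV₁⟩ : ∃ V₁ : Subgroup X, V₁ = sInf 𝓔 := ⟨_, rfl⟩
    have hV₁n : V₁.Normal := by
      refine ⟨fun w hw x => ?_⟩
      rw [hV₁, Subgroup.mem_sInf] at hw ⊢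
      intro E hE
      have h1 := hw _ (h𝓔conj E hE x⁻¹)
      rw [Cfsg.Agent.Lib.Helper18.mem_map_conj_iff] at h1
      simpa using h1
    have hV₁A : V₁ ≤ A := hV₁ ▸ sInf_le (h𝓔self A hAF₁)
    have hV₁T : V₁ ≤ TS := hV₁A.trans (famX_le p TS A hAF)
    have hV₁p : IsPGroup p V₁ := hTp.to_le hV₁T
    have hV₁comm : ∀ a ∈ V₁, ∀ b ∈ V₁, a * b = b * a := fun a ha b hb =>
      famX_elts_comm p TS A hAF a b (hV₁A ha) (hV₁A hb)
    have hZ𝓔 : ∀ E ∈ 𝓔, ∀ e ∈ E, ∀ z ∈ Z, e * z = z * e := by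
      intro E hE e he z hz
      rw [h𝓔] at hE
      obtain ⟨l, hl, E₀, hE₀, rfl⟩ := hE
      obtain ⟨a, ha, rfl⟩ := he
      have hlN := hYZ l⁻¹ (Subgroup.mem_sup_right (L.inv_mem hl))
      have hz' : l⁻¹ * z * l⁻¹⁻¹ ∈ Z := (Subgroup.mem_normalizer_iff.mp hlN z).mp hz
      have hc := zjSub_comm_mem p TS E₀ (hsub₁ hE₀) (l⁻¹ * z * l⁻¹⁻¹) a (hZ ▸ hz') ha
      show l * a * l⁻¹ * z = z * (l * a * l⁻¹)
      have e1 : l * a * l⁻¹ * z = l * (a * (l⁻¹ * z * l⁻¹⁻¹)) * l⁻¹ := by group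
      rw [e1, hc]; group
    have hB𝓔 : ∀ E ∈ 𝓔, ∀ e ∈ E, ∀ b ∈ B, e * b = b * e := by
      obtain ⟨K, hK⟩ : ∃ K : Subgroup X, K = Subgroup.centralizer {e : X | ∃ E ∈ 𝓔, e ∈ E} :=
        ⟨_, rfl⟩
      have hKn : K.Normal := by
        refine ⟨fun c hc x => ?_⟩
        rw [hK, Subgroup.mem_centralizer_iff] at hc ⊢
        rintro e ⟨E, hE, he⟩
        have h1 : x⁻¹ * e * x ∈ E.map (MulAut.conj x⁻¹).toMonoidHom :=
          ⟨e, he, by simp⟩
        have h2 := hc (x⁻¹ * e * x) ⟨_, h𝓔conj E hE x⁻¹, h1⟩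
        have e1 : e * (x * c * x⁻¹) = x * ((x⁻¹ * e * x) * c) * x⁻¹ := by group
        rw [e1, h2]; group
      haveI := hKn
      have h1 : Subgroup.normalClosure ((Z ⊓ B : Subgroup X) : Set X) ≤ K := by
        apply Subgroup.normalClosure_le_normal
        intro z hz
        rw [SetLike.mem_coe, hK, Subgroup.mem_centralizer_iff]
        rintro e ⟨E, hE, he⟩
        exact hZ𝓔 E hE e he z (Subgroup.mem_inf.mp hz).1
      rw [hB₁] at h1
      intro E hE e he b hb
      have h2 := h1 hb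
      rw [hK] at h2
      exact (Subgroup.mem_centralizer_iff.mp h2) e ⟨E, hE, he⟩
    have hΩ : ∀ b ∈ B, b ^ p = 1 → b ∈ V₁ := by
      intro b hb hbp
      rw [hV₁, Subgroup.mem_sInf]
      intro E hE
      have hE' := hE
      rw [h𝓔] at hE'
      obtain ⟨l, hl, E₀, hE₀, rfl⟩ := hE'
      have hb' : l⁻¹ * b * l ∈ B := by
        have := hBn.conj_mem b hb l⁻¹
        simpa using this
      have hb'p : (l⁻¹ * b * l) ^ p = 1 := by
        have e : l⁻¹ * b * l = l⁻¹ * b * l⁻¹⁻¹ := by rw [inv_inv]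
        rw [e, conj_pow, hbp]; simp
      have hmem : l⁻¹ * b * l ∈ E₀ := by
        apply famX_mem_of_comm p TS E₀ (hsub₁ hE₀) _ (hBT hb') hb'p
        intro a ha
        exact hB𝓔 E₀ (h𝓔self E₀ hE₀) a ha _ hb'
      refine ⟨l⁻¹ * b * l, hmem, ?_⟩
      show l * (l⁻¹ * b * l) * l⁻¹ = b
      group
    have hp'cent : ∀ y ∈ Subgroup.centralizer (V₁ : Set X), (orderOf y).Coprime p →
        y ∈ Subgroup.centralizer (B : Set X) := by
      intro y hy hyo
      rw [Subgroup.mem_centralizer_iff]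
      intro b hb
      exact Cfsg.Agent.S2910.centralizes_of_omega hp2 B hB y (mem_normalizer_of_normal B y) hyo
        (fun a ha hap => (Subgroup.mem_centralizer_iff.mp hy) a (hΩ a ha hap)) b hb
    haveI hV₁n' : V₁.Normal := hV₁n
    obtain ⟨L', hL'⟩ : ∃ L' : Subgroup X,
        L' = (Cfsg.pCore p (X ⧸ Subgroup.centralizer (V₁ : Set X))).comap
          (QuotientGroup.mk' (Subgroup.centralizer (V₁ : Set X))) := ⟨_, rfl⟩
    have hL'n : L'.Normal := by
      rw [hL']
      exact Subgroup.Normal.comap (Cfsg.Agent.Lib.Helper1.pCore_normal p) _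
    have hL'L : L' ≤ L := by
      intro y hy
      rw [hL]
      apply mk_mem_pCore_of_normal _ L' hL'n _ hy
      intro d hd
      rw [hL'] at hd
      obtain ⟨k, hk⟩ := exists_pow_mem_of_mk_mem_pCore (Subgroup.centralizer (V₁ : Set X)) hd
      have hc0 : orderOf (d ^ p ^ k) ≠ 0 := (orderOf_pos _).ne'
      obtain ⟨a, m, hm, hom⟩ := Nat.exists_eq_pow_mul_and_not_dvd hc0 p hp.ne_one
      refine ⟨k + a, ?_⟩
      have e : d ^ p ^ (k + a) = (d ^ p ^ k) ^ p ^ a := by rw [← pow_mul, ← pow_add]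
      rw [e]
      apply hp'cent
      · exact Subgroup.pow_mem _ hk _
      · have h1 : ((d ^ p ^ k) ^ p ^ a) ^ m = 1 := by
          rw [← pow_mul, ← hom, pow_orderOf_eq_one]
        have h2 : orderOf ((d ^ p ^ k) ^ p ^ a) ∣ m := orderOf_dvd_of_pow_eq_one h1
        exact Nat.Coprime.coprime_dvd_left h2 ((Nat.Prime.coprime_iff_not_dvd hp).mpr hm).symm
    have hCV₁L' : Subgroup.centralizer (V₁ : Set X) ≤ L' := by
      intro c hc
      rw [hL']
      show (QuotientGroup.mk c : X ⧸ Subgroup.centralizer (V₁ : Set X)) ∈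
        Cfsg.pCore p (X ⧸ Subgroup.centralizer (V₁ : Set X))
      rw [(QuotientGroup.eq_one_iff c).mpr hc]
      exact Subgroup.one_mem _
    have hall : ∀ E' ∈ famX p TS, V₁ ≤ E' := by
      intro E' hE'
      by_contra hnle
      have hcomm0 : ⁅V₁, V₁⁆ ≤ E' := by
        have h0 : ⁅V₁, V₁⁆ = ⊥ := by
          rw [Subgroup.commutator_eq_bot_iff_le_centralizer]
          intro a ha
          show a ∈ Subgroup.centralizer _
          rw [Subgroup.mem_centralizer_iff]
          intro b hb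
          exact hV₁comm b hb a ha
        rw [h0]; exact bot_le
      obtain ⟨E'', hE''F, hVE'', hVN⟩ :=
        famX_repl hp2 p TS V₁ hTp hV₁n hV₁T E' hE' hcomm0 hnle
      have hE''L : E'' ≤ L := by
        intro a ha
        apply hL'L
        rw [hL']
        exact quad_mem_pCore hp2 hno V₁ hV₁p a (hquadA V₁ E'' hE''F hVN a ha)
      have h5 := (famX_mono p TS (TS ⊓ L) E'' inf_le_left hE''F
        (le_inf (famX_le p TS E'' hE''F) hE''L)).1
      exact hVE'' (hV₁ ▸ sInf_le (h𝓔self E'' h5))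
    have hFL : ∀ E' ∈ famX p TS, E' ≤ L := by
      intro E' hE' a ha
      apply hL'L
      apply hCV₁L'
      rw [Subgroup.mem_centralizer_iff]
      intro v hv
      exact famX_elts_comm p TS E' hE' v a (hall E' hE' hv) ha
    have hFeq : famX p (TS ⊓ L) = famX p TS :=
      Set.Subset.antisymm hsub₁ (fun E' hE' =>
        (famX_mono p TS (TS ⊓ L) E' inf_le_left hE'
          (le_inf (famX_le p TS E' hE') (hFL E' hE'))).1)
    have hZeq : zjSub p (TS ⊓ L) = Z := by
      rw [hZ]; unfold zjSub jSub; rw [hFeq]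
    apply hnot
    have hZn : Z.Normal := by
      rw [← Subgroup.normalizer_eq_top_iff, eq_top_iff, ← hfrat]
      apply sup_le
      · intro l hl
        exact hYZ l (Subgroup.mem_sup_right hl)
      · intro g hg
        apply mem_normalizer_of_conj_mem_sub
          (Subgroup.normalizer ((TS ⊓ L : Subgroup X) : Set X)) Z _ hg
        intro g' hg' w hw
        rw [← hZeq] at hw ⊢
        exact zjSub_conj p (TS ⊓ L) g' hg' w hw
    infer_instance

theorem zjSub_le_pCore [Finite X] {p : ℕ} [Fact p.Prime] (hp2 : p ≠ 2)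
    (hno : ¬ Cfsg.Involves (Matrix.SpecialLinearGroup (Fin 2) (ZMod p)) X)
    (hc : Subgroup.centralizer ((Cfsg.pCore p X : Subgroup X) : Set X) ≤ Cfsg.pCore p X)
    (T : Sylow p X) : zjSub p (T : Subgroup X) ≤ Cfsg.pCore p X := by
  intro a ha
  have hHn : (Cfsg.pCore p X).Normal := Cfsg.Agent.Lib.Helper1.pCore_normal p
  have hHp : IsPGroup p (Cfsg.pCore p X) := Cfsg.Agent.Lib.Helper1.pCore_isPGroup p
  haveI := hHn
  have hq : ∀ v ∈ Cfsg.pCore p X, a * (a * v * a⁻¹ * v⁻¹) = (a * v * a⁻¹ * v⁻¹) * a := by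
    intro v hv
    have hvT : v ∈ (T : Subgroup X) := Cfsg.Agent.Lib.Helper1.pCore_le_sylow T hv
    have h1 : v * a⁻¹ * v⁻¹ ∈ zjSub p (T : Subgroup X) :=
      zjSub_conj p _ v (Subgroup.le_normalizer hvT) a⁻¹ (Subgroup.inv_mem _ ha)
    have h2 : a * v * a⁻¹ * v⁻¹ ∈ zjSub p (T : Subgroup X) := by
      have e : a * v * a⁻¹ * v⁻¹ = a * (v * a⁻¹ * v⁻¹) := by group
      rw [e]; exact Subgroup.mul_mem _ ha h1
    exact zjSub_comm p _ _ _ ha h2
  have hmk := quad_mem_pCore hp2 hno (Cfsg.pCore p X) hHp a hq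
  obtain ⟨D, hD⟩ : ∃ D : Subgroup X,
      D = (Cfsg.pCore p (X ⧸ Subgroup.centralizer ((Cfsg.pCore p X : Subgroup X) : Set X))).comap
        (QuotientGroup.mk' (Subgroup.centralizer ((Cfsg.pCore p X : Subgroup X) : Set X))) :=
    ⟨_, rfl⟩
  have hDn : D.Normal := by
    rw [hD]
    exact Subgroup.Normal.comap (Cfsg.Agent.Lib.Helper1.pCore_normal p) _
  have hDp : IsPGroup p D := by
    rintro ⟨y, hy⟩
    rw [hD] at hy
    obtain ⟨k, hk⟩ := exists_pow_mem_of_mk_mem_pCore _ hy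
    obtain ⟨j, hj⟩ := hHp ⟨y ^ p ^ k, hc hk⟩
    refine ⟨k + j, Subtype.ext ?_⟩
    have h1 := congrArg Subtype.val hj
    rw [Subgroup.coe_pow, Subgroup.coe_one] at h1
    rw [Subgroup.coe_pow, Subgroup.coe_one, pow_add, pow_mul]
    exact h1
  have haD : a ∈ D := by rw [hD]; exact hmk
  exact Cfsg.Agent.Lib.Helper1.le_pCore p hDn hDp haD

theorem zje_normal_aux {p : ℕ} [Fact p.Prime] (hp2 : p ≠ 2) :
    ∀ (N : ℕ) (X : Type u) [Group X] [Finite X], Nat.card X ≤ N →
      ¬ Cfsg.Involves (Matrix.SpecialLinearGroup (Fin 2) (ZMod p)) X →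
      Subgroup.centralizer ((Cfsg.pCore p X : Subgroup X) : Set X) ≤ Cfsg.pCore p X →
      ∀ T : Sylow p X, (zjSub p (T : Subgroup X)).Normal := by
  intro N
  induction N with
  | zero =>
    intro X _ _ hcard
    have := Nat.card_pos (α := X)
    omega
  | succ N ih =>
    intro X _ _ hcard hno hc T
    have IH : ∀ Y : Subgroup X, Y ≠ ⊤ → (T : Subgroup X) ≤ Y → Cfsg.pCore p X ≤ Y →
        ∀ y ∈ Y, y ∈ Subgroup.normalizer (zjSub p (T : Subgroup X) : Set X) := by
      intro Y hYne hTY hHY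
      have hlt : Nat.card ↥Y < Nat.card X :=
        Cfsg.Agent.Lib.Helper14.card_subgroup_lt_of_ne_top Y hYne
      have hnoY : ¬ Cfsg.Involves (Matrix.SpecialLinearGroup (Fin 2) (ZMod p)) ↥Y := by
        intro hH
        apply hno
        obtain ⟨K, L, hL, -, he⟩ :=
          Cfsg.Agent.Lib.Helper17.exists_section_of_involves_subgroup Y hH
        exact ⟨K, L, hL, he⟩
      have hcY : Subgroup.centralizer ((Cfsg.pCore p ↥Y : Subgroup ↥Y) : Set ↥Y) ≤
          Cfsg.pCore p ↥Y := by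
        have h1 : (Cfsg.pCore p X).subgroupOf Y ≤ Cfsg.pCore p ↥Y := by
          apply Cfsg.Agent.Lib.Helper1.le_pCore p
          · haveI := Cfsg.Agent.Lib.Helper1.pCore_normal (G := X) p
            infer_instance
          · exact (Cfsg.Agent.Lib.Helper1.pCore_isPGroup (G := X) p).comap_subtype
        intro y hy
        apply h1
        rw [Subgroup.mem_subgroupOf]
        apply hc
        rw [Subgroup.mem_centralizer_iff]
        intro h hh
        have h2 := (Subgroup.mem_centralizer_iff.mp hy) ⟨h, hHY hh⟩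
          (h1 (Subgroup.mem_subgroupOf.mpr hh))
        exact congrArg Subtype.val h2
      have hn := ih ↥Y (by omega) hnoY hcY (T.subtype hTY)
      rw [Sylow.coe_subtype] at hn
      have hmap : (zjSub p ((T : Subgroup X).subgroupOf Y)).map Y.subtype =
          zjSub p (T : Subgroup X) := by
        have hP' : IsPGroup p ((T : Subgroup X).subgroupOf Y) := T.isPGroup'.comap_subtype
        have h := Cfsg.Agent.Lib.Helper14.inducedFunctor_map (isCharPFunctor_zjFun p) Y.subtype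
          Y.subtype_injective ((T : Subgroup X).subgroupOf Y) hP'
        rw [inducedFunctor_zjFun, inducedFunctor_zjFun,
          Subgroup.map_subgroupOf_eq_of_le hTY] at h
        exact h.symm
      intro y hy
      apply mem_normalizer_of_conj_mem_sub Y _ _ hy
      intro y' hy' w hw
      rw [← hmap] at hw ⊢
      obtain ⟨w', hw', rfl⟩ := hw
      exact ⟨⟨y', hy'⟩ * w' * ⟨y', hy'⟩⁻¹, hn.conj_mem w' hw' ⟨y', hy'⟩, rfl⟩
    have h := zje_inf_normal_step hp2 hno T IH (Nat.card (Cfsg.pCore p X)) (Cfsg.pCore p X)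
      (Cfsg.Agent.Lib.Helper1.pCore_normal p) (Cfsg.Agent.Lib.Helper1.pCore_isPGroup p) le_rfl
    rwa [inf_eq_left.mpr (zjSub_le_pCore hp2 hno hc T)] at h

/-- Glauberman's ZJ-theorem for the elementary abelian Thompson subgroup (full centre), for
groups not involving `SL(2,p)`, `p` odd. -/
theorem zje_normal [Finite X] {p : ℕ} [Fact p.Prime] (hp2 : p ≠ 2)
    (hno : ¬ Cfsg.Involves (Matrix.SpecialLinearGroup (Fin 2) (ZMod p)) X)
    (hc : Subgroup.centralizer ((Cfsg.pCore p X : Subgroup X) : Set X) ≤ Cfsg.pCore p X)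
    (T : Sylow p X) : (Cfsg.centerThompsonOf p (T : Subgroup X)).Normal := by
  rw [← inducedFunctor_zjFun', inducedFunctor_zjFun]
  exact zje_normal_aux hp2 (Nat.card X) X le_rfl hno hc T

end Cfsg.Agent.Lib.Helper6
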